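import Mathlib
import Cfsg.Agent.Lib.Coprime.Commutator
import Cfsg.Agent.Lib.Coprime.Generation

/-!
# Groups of extraspecial type inside a group

`Base z E` says that `E` is a `2`-group with centre and commutators in `⟨z⟩`, where `z` is a central
involution; such subgroups behave like nondegenerate alternating spaces over the field with two
elements.
-/

set_option autoImplicit false

open Subgroup
open scoped commutatorElement

namespace Cfsg.Agent.DadeExt

universe u

variable {G : Type u} [Group G]

/-- `E` is an extraspecial `2`-group with centre `⟨z⟩`, or `E = ⟨z⟩`. -/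
structure Base (z : G) (E : Subgroup G) : Prop where
  central : z ∈ Subgroup.center G
  mem : z ∈ E
  sq : z * z = 1
  ne : z ≠ 1
  two : IsPGroup 2 E
  comm : ∀ a ∈ E, ∀ b ∈ E, ⁅a, b⁆ ∈ zpowers z
  cent : ∀ x ∈ E, (∀ y ∈ E, x * y = y * x) → x ∈ zpowers z

theorem comm_of_le_centralizer {A B : Subgroup G} (h : A ≤ Subgroup.centralizer (B : Set G))
    {a b : G} (ha : a ∈ A) (hb : b ∈ B) : a * b = b * a :=
  (mem_centralizer_iff.mp (h ha) b hb).symm

theorem le_normalizer_of_le_centralizer {A B : Subgroup G}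
    (h : A ≤ Subgroup.centralizer (B : Set G)) : A ≤ Subgroup.normalizer (B : Set G) :=
  h.trans (centralizer_le_normalizer _)

/-- Conjugation preserves the centraliser of a normalised subgroup. -/
theorem le_normalizer_centralizer {A B : Subgroup G} (h : A ≤ Subgroup.normalizer (B : Set G)) :
    A ≤ Subgroup.normalizer (Subgroup.centralizer (B : Set G) : Set G) := by
  refine Subgroup.le_normalizer_iff.mpr fun a ha x hx => mem_centralizer_iff.mpr fun b hb => ?_
  have h1 : a⁻¹ * b * a ∈ B := by
    have := (Subgroup.le_normalizer_iff.mp h) a⁻¹ (inv_mem ha) b hb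
    rwa [inv_inv] at this
  have h2 := mem_centralizer_iff.mp hx _ h1
  calc b * (a * x * a⁻¹) = a * ((a⁻¹ * b * a) * x) * a⁻¹ := by group
    _ = a * (x * (a⁻¹ * b * a)) * a⁻¹ := by rw [h2]
    _ = a * x * a⁻¹ * b := by group

theorem le_normalizer_inf {A B C : Subgroup G} (hB : A ≤ Subgroup.normalizer (B : Set G))
    (hC : A ≤ Subgroup.normalizer (C : Set G)) :
    A ≤ Subgroup.normalizer (B ⊓ C : Set G) :=
  (le_inf hB hC).trans Subgroup.inf_normalizer_le_normalizer_inf

namespace Base

variable {z : G} {E X Y : Subgroup G}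

theorem mem_zpowers_iff' (h : Base z E) {x : G} : x ∈ zpowers z ↔ x = 1 ∨ x = z := by
  constructor
  · intro hx
    obtain ⟨k, rfl⟩ := Subgroup.mem_zpowers_iff.mp hx
    rcases Int.even_or_odd k with ⟨m, rfl⟩ | ⟨m, rfl⟩
    · exact Or.inl (by rw [zpow_add, ← (Commute.refl z).mul_zpow, h.sq, one_zpow])
    · exact Or.inr (by
        rw [two_mul, zpow_add, zpow_add, ← (Commute.refl z).mul_zpow, h.sq, one_zpow, one_mul,
          zpow_one])
  · rintro (rfl | rfl)
    exacts [one_mem _, mem_zpowers _]

theorem card_zpowers (h : Base z E) : Nat.card (zpowers z) = 2 := by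
  rw [Nat.card_zpowers]
  exact orderOf_eq_prime (by rw [pow_two, h.sq]) h.ne

theorem zpowers_le (h : Base z E) : zpowers z ≤ E := zpowers_le_of_mem h.mem

theorem commute_zpowers (h : Base z E) {x : G} (hx : x ∈ zpowers z) (g : G) : g * x = x * g :=
  Subgroup.mem_center_iff.mp ((zpowers_le_of_mem (H := Subgroup.center G) h.central) hx) g

theorem zpowers_le_centralizer (h : Base z E) (S : Set G) :
    zpowers z ≤ Subgroup.centralizer S :=
  (zpowers_le_of_mem (H := Subgroup.center G) h.central).trans (center_le_centralizer S)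

theorem le_normalizer_zpowers (h : Base z E) (A : Subgroup G) :
    A ≤ Subgroup.normalizer (zpowers z : Set G) :=
  Subgroup.le_normalizer_iff.mpr fun a _ x hx => by
    rw [h.commute_zpowers hx a, mul_inv_cancel_right]; exact hx

theorem le_normalizer (h : Base z E) (hX : zpowers z ≤ X) (hXE : X ≤ E) :
    E ≤ Subgroup.normalizer (X : Set G) := by
  refine Subgroup.le_normalizer_iff.mpr fun a ha x hx => ?_
  rw [show a * x * a⁻¹ = ⁅a, x⁆ * x by rw [commutatorElement_def]; group]
  exact mul_mem (hX (h.comm a ha x (hXE hx))) hx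

theorem coprime_card [Finite G] (h : Base z E) {A : Subgroup G} (hA : Odd (Nat.card A)) :
    (Nat.card A).Coprime (Nat.card E) := by
  haveI : Fact (Nat.Prime 2) := ⟨Nat.prime_two⟩
  obtain ⟨n, hn⟩ := IsPGroup.iff_card.mp h.two
  rw [hn]
  exact Nat.Coprime.pow_right n (Nat.coprime_two_right.mpr hA)

theorem isSolvable [Finite G] (h : Base z E) : Group.IsSolvable E := by
  haveI : Fact (Nat.Prime 2) := ⟨Nat.prime_two⟩
  exact Coprime.isSolvable_of_isPGroup h.two

theorem ofLE (h : Base z E) (hX : zpowers z ≤ X) (hXE : X ≤ E)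
    (hc : ∀ x ∈ X, (∀ y ∈ X, x * y = y * x) → x ∈ zpowers z) : Base z X :=
  ⟨h.central, hX (mem_zpowers z), h.sq, h.ne, h.two.to_le hXE,
    fun a ha b hb => h.comm a (hXE ha) b (hXE hb), hc⟩

/-- Adding one element costs at most a factor two in the centraliser. -/
theorem card_centralizer_insert [Finite G] (h : Base z E) {S : Set G} {x : G} (hx : x ∈ E) :
    Nat.card ↥(E ⊓ Subgroup.centralizer S) ≤
      2 * Nat.card ↥(E ⊓ Subgroup.centralizer (insert x S)) := by
  set C := E ⊓ Subgroup.centralizer S
  have hinj : Function.Injective (fun p : ↥(E ⊓ Subgroup.centralizer (insert x S)) => (p : G)) :=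
    Subtype.val_injective
  let f : ↥C →* ↥(zpowers z) :=
    { toFun := fun c => ⟨⁅(c : G), x⁆, h.comm c c.2.1 x hx⟩
      map_one' := Subtype.ext (commutatorElement_one_left x)
      map_mul' := fun c c' => Subtype.ext (by
        have hcen := h.commute_zpowers (h.comm c' c'.2.1 x hx)
        change ⁅(c : G) * c', x⁆ = ⁅(c : G), x⁆ * ⁅(c' : G), x⁆
        rw [commutatorElement_mul_left_eq_conj_mul, hcen (c : G), mul_inv_cancel_right,
          ← hcen]) }
  have hker : f.ker.map C.subtype ≤ E ⊓ Subgroup.centralizer (insert x S) := by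
    rintro _ ⟨c, hc, rfl⟩
    refine ⟨c.2.1, mem_centralizer_iff.mpr fun s hs => ?_⟩
    rcases hs with rfl | hs
    · exact (commutatorElement_eq_one_iff_commute.mp (congrArg Subtype.val hc)).symm
    · exact mem_centralizer_iff.mp c.2.2 s hs
  have h1 : Nat.card f.ker * f.ker.index = Nat.card C := f.ker.card_mul_index
  have h2 : f.ker.index ≤ 2 := by
    rw [Subgroup.index_ker, ← h.card_zpowers]
    exact Nat.le_of_dvd Nat.card_pos (Subgroup.card_subgroup_dvd_card _)
  have h3 : Nat.card f.ker ≤ Nat.card ↥(E ⊓ Subgroup.centralizer (insert x S)) := by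
    rw [← Subgroup.card_subtype]
    exact Nat.le_of_dvd Nat.card_pos (Subgroup.card_dvd_of_le hker)
  nlinarith

/-- The centraliser of `⟨z, S⟩` is large. -/
theorem card_mul_le [Finite G] (h : Base z E) (S : Set G) (hS : S.Finite) : S ⊆ E →
    Nat.card E * 2 ≤ Nat.card ↥(E ⊓ Subgroup.centralizer S) *
      Nat.card ↥(zpowers z ⊔ Subgroup.closure S) := by
  induction S, hS using Set.Finite.induction_on with
  | empty =>
    intro _
    have e1 : E ⊓ Subgroup.centralizer (∅ : Set G) = E :=
      inf_of_le_left fun y _ => mem_centralizer_iff.mpr fun a ha => absurd ha (Set.notMem_empty a)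
    rw [e1, Subgroup.closure_empty, sup_bot_eq, h.card_zpowers]
  | @insert x S _ _ ih =>
    intro hsub
    have hxE : x ∈ E := hsub (Set.mem_insert _ _)
    have ih' := ih ((Set.subset_insert _ _).trans hsub)
    set X := zpowers z ⊔ Subgroup.closure S
    have hle : X ≤ zpowers z ⊔ Subgroup.closure (insert x S) :=
      sup_le_sup_left (Subgroup.closure_mono (Set.subset_insert _ _)) _
    by_cases hmem : x ∈ X
    · have e1 : zpowers z ⊔ Subgroup.closure (insert x S) = X := by
        refine le_antisymm (sup_le le_sup_left ((Subgroup.closure_le _).mpr ?_)) hle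
        exact Set.insert_subset hmem fun y hy =>
          Subgroup.mem_sup_right (Subgroup.subset_closure hy)
      have e2 : E ⊓ Subgroup.centralizer S ≤ E ⊓ Subgroup.centralizer (insert x S) := by
        refine fun y hy => ⟨hy.1, mem_centralizer_iff.mpr fun s hs => ?_⟩
        rcases hs with rfl | hs
        · refine (mem_centralizer_iff.mp ?_ _ hmem)
          have : X ≤ Subgroup.centralizer ({y} : Set G) :=
            sup_le (h.zpowers_le_centralizer _) ((Subgroup.closure_le _).mpr fun w hw =>
              mem_centralizer_iff.mpr fun v hv => by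
                rw [Set.mem_singleton_iff.mp hv]
                exact (mem_centralizer_iff.mp hy.2 w hw).symm)
          exact mem_centralizer_iff.mpr fun w hw =>
            (mem_centralizer_iff.mp (this hw) y rfl).symm
        · exact mem_centralizer_iff.mp hy.2 s hs
      rw [e1]
      exact ih'.trans (Nat.mul_le_mul_right _
        (Nat.le_of_dvd Nat.card_pos (Subgroup.card_dvd_of_le e2)))
    · have hdvd := Subgroup.card_dvd_of_le hle
      have hne : Nat.card X ≠ Nat.card ↥(zpowers z ⊔ Subgroup.closure (insert x S)) := by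
        intro he
        exact hmem ((Subgroup.eq_of_le_of_card_ge hle he.ge).symm ▸
          Subgroup.mem_sup_right (Subgroup.subset_closure (Set.mem_insert _ _)))
      have h2X : 2 * Nat.card X ≤ Nat.card ↥(zpowers z ⊔ Subgroup.closure (insert x S)) := by
        obtain ⟨k, hk⟩ := hdvd
        have hk0 : k ≠ 0 := fun h0 => Nat.card_pos.ne' (by rw [hk, h0, mul_zero])
        have hk1 : k ≠ 1 := fun h1 => hne (by rw [hk, h1, mul_one])
        rw [hk, mul_comm 2]
        exact Nat.mul_le_mul_left _ (by omega)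
      have h3 := h.card_centralizer_insert (S := S) hxE
      calc Nat.card E * 2 ≤ Nat.card ↥(E ⊓ Subgroup.centralizer S) * Nat.card X := ih'
        _ ≤ (2 * Nat.card ↥(E ⊓ Subgroup.centralizer (insert x S))) * Nat.card X :=
          Nat.mul_le_mul_right _ h3
        _ = Nat.card ↥(E ⊓ Subgroup.centralizer (insert x S)) * (2 * Nat.card X) := by ring
        _ ≤ _ := Nat.mul_le_mul_left _ h2X

/-- A subgroup of extraspecial type is a central factor. -/
theorem factor [Finite G] (h : Base z E) (hX : Base z X) (hXE : X ≤ E) :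
    X ⊔ (E ⊓ Subgroup.centralizer (X : Set G)) = E ∧
      Base z (E ⊓ Subgroup.centralizer (X : Set G)) := by
  set Y := E ⊓ Subgroup.centralizer (X : Set G)
  have hZY : zpowers z ≤ Y := le_inf h.zpowers_le (h.zpowers_le_centralizer _)
  have hYX : Y ≤ Subgroup.centralizer (X : Set G) := inf_le_right
  have hsup : X ⊔ Y = E := by
    refine Subgroup.eq_of_le_of_card_ge (sup_le hXE inf_le_left) ?_
    have h1 := h.card_mul_le (X : Set G) (Set.toFinite _) hXE
    rw [Subgroup.closure_eq, sup_of_le_right hX.zpowers_le] at h1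
    have hi : X ⊓ Y = zpowers z := le_antisymm
      (fun w hw => hX.cent w hw.1 fun y hy => (mem_centralizer_iff.mp hw.2.2 y hy).symm)
      (le_inf hX.zpowers_le hZY)
    classical
    let r : ↥(X ⊔ Y) → ↥X := fun w =>
      if hw : ∃ x : ↥X, (x : G)⁻¹ * w ∈ Y then hw.choose else 1
    let φ : ↥X × ↥Y → ↥(X ⊔ Y) × Bool := fun p =>
      (⟨p.1 * p.2, Subgroup.mul_mem_sup p.1.2 p.2.2⟩,
        decide (p.1 = r ⟨p.1 * p.2, Subgroup.mul_mem_sup p.1.2 p.2.2⟩))
    have h2 : Nat.card ↥X * Nat.card ↥Y ≤ Nat.card ↥(X ⊔ Y) * 2 := by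
      rw [← Nat.card_prod, show (2 : ℕ) = Nat.card Bool by simp, ← Nat.card_prod]
      refine Nat.card_le_card_of_injective φ ?_
      rintro ⟨x, y⟩ ⟨x', y'⟩ he
      obtain ⟨hw, hb⟩ := Prod.ext_iff.mp he
      simp only [φ] at hw hb
      have hxy : (x : G) * y = x' * y' := congrArg Subtype.val hw
      rw [hw] at hb
      set a := r ⟨(x' : G) * y', Subgroup.mul_mem_sup x'.2 y'.2⟩
      have hx : x = x' := by
        by_contra hne
        have hin : ((x' : G))⁻¹ * x ∈ zpowers z := by
          rw [← hi]
          refine Subgroup.mem_inf.mpr ⟨mul_mem (inv_mem x'.2) x.2, ?_⟩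
          have e : (x' : G)⁻¹ * x = (y' : G) * (y : G)⁻¹ := by
            rw [eq_mul_inv_iff_mul_eq, mul_assoc, hxy, inv_mul_cancel_left]
          rw [e]
          exact mul_mem y'.2 (inv_mem y.2)
        have key : ∀ w v : ↥X, (w : G)⁻¹ * v ∈ zpowers z → w ≠ v → (v : G) = w * z := by
          intro w v hwv hwne
          rcases h.mem_zpowers_iff'.mp hwv with h0 | h0
          · exact absurd (Subtype.ext (inv_mul_eq_one.mp h0)) hwne
          · rw [← h0, mul_inv_cancel_left]
        have hxz : (x : G) = x' * z := key x' x hin (Ne.symm hne)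
        have hra : (a : G)⁻¹ * x' ∈ zpowers z := by
          have hex : ∃ v : ↥X, (v : G)⁻¹ * ((x' : G) * y') ∈ Y := ⟨x', by simp⟩
          have ha : (a : G)⁻¹ * ((x' : G) * y') ∈ Y := by
            simp only [a, r, dif_pos hex]
            exact hex.choose_spec
          rw [← hi]
          refine Subgroup.mem_inf.mpr ⟨mul_mem (inv_mem a.2) x'.2, ?_⟩
          have := mul_mem ha (inv_mem y'.2)
          simpa [mul_assoc] using this
        by_cases h' : x' = a
        · rw [decide_eq_true h', decide_eq_true_eq] at hb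
          exact hne (hb.trans h'.symm)
        · rw [decide_eq_false h', decide_eq_false_iff_not] at hb
          refine hb (Subtype.ext ?_)
          rw [hxz, key a x' hra (Ne.symm h'), mul_assoc, h.sq, mul_one]
      subst hx
      exact Prod.ext rfl (Subtype.ext (mul_left_cancel hxy))
    rw [Nat.mul_comm (Nat.card Y)] at h1
    omega
  refine ⟨hsup, h.ofLE hZY inf_le_left fun w hw hc => h.cent w hw.1 fun y hy => ?_⟩
  have hle : X ⊔ Y ≤ Subgroup.centralizer ({w} : Set G) :=
    sup_le (fun x hx => mem_centralizer_iff.mpr fun v hv => by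
        rw [Set.mem_singleton_iff.mp hv]
        exact (mem_centralizer_iff.mp hw.2 x hx).symm)
      fun v hv => mem_centralizer_iff.mpr fun v' hv' => by
        rw [Set.mem_singleton_iff.mp hv']
        exact hc v hv
  exact mem_centralizer_iff.mp (hle (hsup.symm ▸ hy)) w rfl

theorem sup (h : Base z E) (hX : Base z X) (hY : Base z Y) (hXE : X ≤ E) (hYE : Y ≤ E)
    (hc : X ≤ Subgroup.centralizer (Y : Set G)) : Base z (X ⊔ Y) := by
  refine h.ofLE (hX.zpowers_le.trans le_sup_left) (sup_le hXE hYE) fun w hw hcw => ?_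
  obtain ⟨x, hx, y, hy, rfl⟩ :=
    (Coprime.mem_sup_of_le_normalizer (hYE.trans (h.le_normalizer hX.zpowers_le hXE))).mp hw
  have hxZ : x ∈ zpowers z := hX.cent x hx fun v hv => by
    have h1 := hcw v (Subgroup.mem_sup_left hv)
    have h2 : v * y = y * v := comm_of_le_centralizer hc hv hy
    calc x * v = (x * y * v) * y⁻¹ := by rw [mul_assoc x y v, ← h2]; group
      _ = (v * (x * y)) * y⁻¹ := by rw [h1]
      _ = v * x := by group
  have hyZ : y ∈ zpowers z := hY.cent y hy fun v hv => by
    have h1 := hcw v (Subgroup.mem_sup_right hv)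
    have h2 : x * v = v * x := comm_of_le_centralizer hc hx hv
    calc y * v = x⁻¹ * (x * y * v) := by group
      _ = x⁻¹ * (v * (x * y)) := by rw [h1]
      _ = x⁻¹ * ((v * x) * y) := by rw [mul_assoc v x y]
      _ = x⁻¹ * ((x * v) * y) := by rw [h2]
      _ = v * y := by group
  exact mul_mem hxZ hyZ

theorem finset_sup (h : Base z E) {ι : Type*} [DecidableEq ι] (f : ι → Subgroup G) {s : Finset ι}
    (hs : s.Nonempty) (hB : ∀ i ∈ s, Base z (f i) ∧ f i ≤ E)
    (hc : ∀ i ∈ s, ∀ j ∈ s, i ≠ j → f i ≤ Subgroup.centralizer (f j : Set G)) :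
    Base z (s.sup f) ∧ s.sup f ≤ E := by
  induction hs using Finset.Nonempty.cons_induction with
  | singleton a => simpa using hB a (Finset.mem_singleton_self a)
  | cons a s has hs ih =>
    obtain ⟨h1, h2⟩ := ih (fun i hi => hB i (Finset.mem_cons_of_mem hi))
      fun i hi j hj => hc i (Finset.mem_cons_of_mem hi) j (Finset.mem_cons_of_mem hj)
    obtain ⟨ha1, ha2⟩ := hB a (Finset.mem_cons_self a s)
    rw [Finset.cons_eq_insert, Finset.sup_insert]
    refine ⟨h.sup ha1 h1 ha2 h2 (Subgroup.le_centralizer_iff.mp (Finset.sup_le fun j hj => ?_)),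
      sup_le ha2 h2⟩
    exact hc j (Finset.mem_cons_of_mem hj) a (Finset.mem_cons_self a s) fun he => has (he ▸ hj)

/-- Fixed points of an odd group of automorphisms. -/
theorem fixed [Finite G] (h : Base z E) {A : Subgroup G} (hA : A ≤ Subgroup.normalizer (E : Set G))
    (hodd : Odd (Nat.card A)) : Base z (E ⊓ Subgroup.centralizer (A : Set G)) := by
  set X := E ⊓ Subgroup.centralizer (A : Set G)
  refine h.ofLE (le_inf h.zpowers_le (h.zpowers_le_centralizer _)) inf_le_left fun x hx hc => ?_
  refine h.cent x hx.1 fun y hy => ?_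
  have hXA : ⁅A, X⁆ = ⊥ := by
    rw [Subgroup.commutator_comm, Subgroup.commutator_eq_bot_iff_le_centralizer]
    exact inf_le_right
  have hEX : ⁅X, E⁆ ≤ zpowers z :=
    Subgroup.commutator_le.mpr fun a ha b hb => h.comm a ha.1 b hb
  have h1 : ⁅⁅E, A⁆, X⁆ = ⊥ := by
    refine Subgroup.commutator_commutator_eq_bot_of_rotate ?_ ?_
    · rw [hXA, Subgroup.commutator_bot_left]
    · refine le_bot_iff.mp ((Subgroup.commutator_mono hEX le_rfl).trans ?_)
      exact (Subgroup.commutator_eq_bot_iff_le_centralizer.mpr (h.zpowers_le_centralizer _)).le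
  have h2 : ⁅E, A⁆ ≤ Subgroup.centralizer (X : Set G) :=
    Subgroup.commutator_eq_bot_iff_le_centralizer.mp h1
  obtain ⟨c, hc', w, hw, rfl⟩ := Coprime.exists_eq_centralizer_mul_commutator hA
    (h.coprime_card hodd) (Or.inr h.isSolvable) hy
  rw [← mul_assoc, hc c hc', mul_assoc, (comm_of_le_centralizer h2 hw hx).symm, ← mul_assoc]

/-- Fixed-point subgroups of two commuting odd groups commute if the joint fixed points are
central. -/
theorem fixed_commute [Finite G] (h : Base z E) {A B : Subgroup G}
    (hA : A ≤ Subgroup.normalizer (E : Set G)) (hB : B ≤ Subgroup.normalizer (E : Set G))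
    (hoddB : Odd (Nat.card B)) (hBA : B ≤ Subgroup.normalizer (A : Set G))
    (hjoint : ∀ x ∈ E, x ∈ Subgroup.centralizer (A : Set G) → x ∈ Subgroup.centralizer (B : Set G)
      → x ∈ zpowers z) :
    E ⊓ Subgroup.centralizer (A : Set G) ≤
      Subgroup.centralizer (E ⊓ Subgroup.centralizer (B : Set G) : Set G) := by
  set X := E ⊓ Subgroup.centralizer (A : Set G)
  set Y := E ⊓ Subgroup.centralizer (B : Set G)
  have hBX : B ≤ Subgroup.normalizer (X : Set G) :=
    le_normalizer_inf hB (le_normalizer_centralizer hBA)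
  have hYB : ⁅Y, B⁆ = ⊥ := Subgroup.commutator_eq_bot_iff_le_centralizer.mpr inf_le_right
  have hXY : ⁅Y, X⁆ ≤ zpowers z :=
    Subgroup.commutator_le.mpr fun a ha b hb => h.comm a ha.1 b hb.1
  have h1 : ⁅⁅X, B⁆, Y⁆ = ⊥ := by
    refine Subgroup.commutator_commutator_eq_bot_of_rotate ?_ ?_
    · rw [Subgroup.commutator_comm B Y, hYB, Subgroup.commutator_bot_left]
    · refine le_bot_iff.mp ((Subgroup.commutator_mono hXY le_rfl).trans ?_)
      exact (Subgroup.commutator_eq_bot_iff_le_centralizer.mpr (h.zpowers_le_centralizer _)).le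
  intro x hx
  obtain ⟨c, hc, w, hw, rfl⟩ := Coprime.exists_eq_centralizer_mul_commutator hBX
    ((h.coprime_card hoddB).coprime_dvd_right (Subgroup.card_dvd_of_le inf_le_left))
    (Or.inr (Coprime.isSolvable_of_le inf_le_left h.isSolvable)) hx
  exact mul_mem (h.zpowers_le_centralizer _ (hjoint c hc.1.1 hc.1.2 hc.2))
    (Subgroup.commutator_eq_bot_iff_le_centralizer.mp h1 hw)

end Base

end Cfsg.Agent.DadeExt
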