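import Mathlib
import Cfsg.Agent.DadeExt.Base
import Cfsg.Agent.Lib.Characters.Kernel
import Cfsg.Agent.Lib.Characters.Inner
import Cfsg.Agent.Lib.CharTheory.ExtendChar
import Cfsg.Agent.Lib.CharTheory.NormalSylow.Extend

/-!
# Extensions of the faithful irreducible character of a group of extraspecial type

`Good z E Q χ` says that `χ` restricts to a character of `Q ≥ E` which is irreducible on `E` and
negates `z`.
-/

set_option autoImplicit false
set_option linter.style.haveILetI false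
set_option linter.unusedSectionVars false

open Subgroup
open scoped ComplexConjugate commutatorElement

namespace Cfsg.Agent.DadeExt

open Cfsg.Agent.Characters Cfsg.Agent.CharTheory

universe u

variable {G : Type u} [Group G]

/-- Restriction of a function to a subgroup. -/
def res (Q : Subgroup G) (χ : G → ℂ) : Q → ℂ := fun q => χ q

open scoped Classical in
/-- Extension of a function on a subgroup by zero. -/
noncomputable def ext0 (Q : Subgroup G) (f : Q → ℂ) : G → ℂ :=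
  fun g => if h : g ∈ Q then f ⟨g, h⟩ else 0

theorem ext0_apply (Q : Subgroup G) (f : Q → ℂ) {g : G} (hg : g ∈ Q) :
    ext0 Q f g = f ⟨g, hg⟩ := by rw [ext0, dif_pos hg]

theorem res_ext0 (Q : Subgroup G) (f : Q → ℂ) : res Q (ext0 Q f) = f :=
  funext fun q => by rw [res, ext0_apply Q f q.2]

/-- `χ` is, on `Q`, a character extending the faithful irreducible character of `E`. -/
structure Good (z : G) (E Q : Subgroup G) (χ : G → ℂ) : Prop where
  le : E ≤ Q
  char : Cfsg.IsCharacter Q (res Q χ)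
  irr : Cfsg.IsIrrCharacter E (res E χ)
  neg : χ z = -χ 1

/-- Conjugation by `g` as an isomorphism between subgroups it maps onto each other. -/
def conjEquiv (g : G) {Q' Q : Subgroup G} (h : ∀ x, x ∈ Q' ↔ g * x * g⁻¹ ∈ Q) : Q' ≃* Q where
  toFun x := ⟨g * x * g⁻¹, (h x).mp x.2⟩
  invFun y := ⟨g⁻¹ * y * g, (h _).mpr (by simp [mul_assoc])⟩
  left_inv x := Subtype.ext (by simp [mul_assoc])
  right_inv y := Subtype.ext (by simp [mul_assoc])
  map_mul' x y := Subtype.ext (by simp [mul_assoc])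

theorem conj_mem_iff_of_normalizer {g : G} {Q : Subgroup G}
    (hg : g ∈ Subgroup.normalizer (Q : Set G)) (x : G) : x ∈ Q ↔ g * x * g⁻¹ ∈ Q :=
  Subgroup.mem_normalizer_iff.mp hg x

namespace Good

variable [Finite G] {z : G} {E Q Q' : Subgroup G} {χ χ' : G → ℂ}

theorem congr (h : Good z E Q χ) (hz : z ∈ E) (he : ∀ x ∈ Q, χ' x = χ x) : Good z E Q χ' := by
  have h1 : res Q χ' = res Q χ := funext fun q => he q q.2
  have h2 : res E χ' = res E χ := funext fun q => he q (h.le q.2)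
  exact ⟨h.le, h1 ▸ h.char, h2 ▸ h.irr, by rw [he z (h.le hz), he 1 (one_mem Q), h.neg]⟩

theorem mono (h : Good z E Q χ) (hE : E ≤ Q') (hQ : Q' ≤ Q) : Good z E Q' χ :=
  ⟨hE, isCharacter_comp (Subgroup.inclusion hQ) h.char, h.irr, h.neg⟩

theorem irrQ (h : Good z E Q χ) : Cfsg.IsIrrCharacter Q (res Q χ) :=
  NormalSylow.isIrr_of_restrict (Subgroup.inclusion h.le) h.char h.irr

theorem class_apply (h : Good z E Q χ) {a x : G} (ha : a ∈ Q) (hx : x ∈ Q) :
    χ (a * x * a⁻¹) = χ x :=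
  char_isClassFunction h.char ⟨x, hx⟩ ⟨a, ha⟩

theorem one_ne (h : Good z E Q χ) : χ 1 ≠ 0 := by
  have := irr_one_ne_zero h.irr
  simpa [res] using this

theorem mul_z (h : Good z E Q χ) (hz : z ∈ E) {x : G} (hx : x ∈ Q) : χ (z * x) = -χ x := by
  obtain ⟨n, ρ, hρ⟩ := h.char
  have e : ∀ y (hy : y ∈ Q), χ y = ρ.character ⟨y, hy⟩ := fun y hy => (congrFun hρ ⟨y, hy⟩).symm
  have h1 : ρ.character ⟨z, h.le hz⟩ = -ρ.character 1 := by
    rw [← e z (h.le hz), h.neg, e 1 (one_mem Q)]; rfl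
  have hn : ρ.character 1 ≠ 0 := by
    have := h.one_ne; rwa [e 1 (one_mem Q)] at this
  obtain ⟨ω, hω⟩ := rep_apply_eq_smul_of_norm_eq ρ ⟨z, h.le hz⟩
    (by rw [h1, norm_neg, ρ.char_one, Complex.norm_natCast])
  have hmul : ∀ y : Q, ρ.character (⟨z, h.le hz⟩ * y) = ω * ρ.character y := fun y => by
    simp [Representation.character, map_mul, hω, Module.End.mul_eq_comp, smul_eq_mul]
  have hω1 : ω = -1 := by
    have := hmul 1
    rw [mul_one, h1] at this
    exact mul_right_cancel₀ hn (by rw [← this]; ring)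
  rw [e (z * x) (Q.mul_mem (h.le hz) hx), e x hx,
    show (⟨z * x, Q.mul_mem (h.le hz) hx⟩ : Q) = ⟨z, h.le hz⟩ * ⟨x, hx⟩ from rfl, hmul, hω1]
  ring

theorem vanish (h : Good z E Q χ) (hE : Base z E) {e : G} (he : e ∈ E) (hne : e ∉ zpowers z) :
    χ e = 0 := by
  obtain ⟨y, hy, hc⟩ : ∃ y ∈ E, e * y ≠ y * e := by
    by_contra hcon
    push Not at hcon
    exact hne (hE.cent e he hcon)
  rcases hE.mem_zpowers_iff'.mp (hE.comm y hy e he) with h0 | h0
  · exact absurd (commutatorElement_eq_one_iff_commute.mp h0).symm hc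
  · have h1 : χ (y * e * y⁻¹) = χ e := h.class_apply (h.le hy) (h.le he)
    rw [show y * e * y⁻¹ = ⁅y, e⁆ * e by rw [commutatorElement_def]; group, h0,
      h.mul_z hE.mem (h.le he)] at h1
    linear_combination (-(1 : ℂ) / 2) * h1

theorem two_mul_sq (h : Good z E Q χ) (hE : Base z E) :
    2 * (χ 1 * conj (χ 1)) = (Nat.card E : ℂ) := by
  classical
  haveI := Fintype.ofFinite E
  have h1 := classInner_isIrr_self h.irr
  rw [classInner_def, inv_mul_eq_one₀ natCard_ne_zero] at h1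
  rw [h1]
  have hne : (1 : E) ≠ ⟨z, hE.mem⟩ := fun he => hE.ne (congrArg Subtype.val he).symm
  rw [← Finset.sum_subset (Finset.subset_univ {(1 : E), ⟨z, hE.mem⟩}), Finset.sum_pair hne]
  · simp only [res, OneMemClass.coe_one, h.neg, map_neg]
    ring
  · intro e _ he
    simp only [Finset.mem_insert, Finset.mem_singleton, not_or] at he
    rw [res, h.vanish hE e.2 fun hz => ?_, zero_mul]
    rcases hE.mem_zpowers_iff'.mp hz with h0 | h0
    exacts [he.1 (Subtype.ext h0), he.2 (Subtype.ext h0)]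

/-- All such characters agree on `E`. -/
theorem agree (h : Good z E Q χ) (h' : Good z E Q' χ') (hE : Base z E) {e : G} (he : e ∈ E) :
    χ e = χ' e := by
  obtain ⟨a, ha⟩ := char_one_nat (isCharacter_of_isIrr h.irr)
  obtain ⟨b, hb⟩ := char_one_nat (isCharacter_of_isIrr h'.irr)
  simp only [res, OneMemClass.coe_one] at ha hb
  have h1 := (h.two_mul_sq hE).trans (h'.two_mul_sq hE).symm
  rw [ha, hb, Complex.conj_natCast, Complex.conj_natCast] at h1
  have hab : a = b := by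
    have h2 : 2 * (a * a) = 2 * (b * b) := by exact_mod_cast h1
    exact Nat.mul_self_inj.mp (by omega)
  by_cases hz : e ∈ zpowers z
  · rcases hE.mem_zpowers_iff'.mp hz with rfl | rfl
    · rw [ha, hb, hab]
    · rw [h.neg, h'.neg, ha, hb, hab]
  · rw [h.vanish hE he hz, h'.vanish hE he hz]

theorem exists_base (hE : Base z E) : ∃ χ, Good z E E χ := by
  obtain ⟨φ, hφ, hne⟩ := exists_irr_ne (g := (⟨z, hE.mem⟩ : E))
    (fun he => hE.ne (congrArg Subtype.val he))
  obtain ⟨n, ρ, hρ, rfl⟩ := id hφ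
  haveI := hρ
  obtain ⟨c, hc⟩ := schur_scalar ρ (ρ ⟨z, hE.mem⟩) fun g v => by
    rw [← Module.End.mul_apply, ← Module.End.mul_apply, ← map_mul, ← map_mul,
      show g * (⟨z, hE.mem⟩ : E) = ⟨z, hE.mem⟩ * g from
        Subtype.ext (Subgroup.mem_center_iff.mp hE.central g)]
  have hmul : ∀ y : E, ρ.character (⟨z, hE.mem⟩ * y) = c * ρ.character y := fun y => by
    simp [Representation.character, map_mul, hc, Module.End.mul_eq_comp, smul_eq_mul]
  have h1 : ρ.character ⟨z, hE.mem⟩ = c * ρ.character 1 := by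
    conv_lhs => rw [← mul_one (⟨z, hE.mem⟩ : E)]
    rw [hmul]
  have h2 : (⟨z, hE.mem⟩ : E) * ⟨z, hE.mem⟩ = 1 := Subtype.ext hE.sq
  have h3 := hmul ⟨z, hE.mem⟩
  rw [h2, h1] at h3
  have hc2 : c * c = 1 := mul_right_cancel₀ (irr_one_ne_zero hφ) (by linear_combination -h3)
  have hcne : c ≠ 1 := fun hc1 => hne (by rw [h1, hc1, one_mul])
  have hcneg : c = -1 := (mul_self_eq_one_iff.mp hc2).resolve_left hcne
  refine ⟨ext0 E ρ.character, le_rfl, ?_, ?_, ?_⟩
  · rw [res_ext0]; exact isCharacter_of_isIrr hφ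
  · rw [res_ext0]; exact hφ
  · rw [ext0_apply _ _ hE.mem, ext0_apply _ _ (one_mem E), h1, hcneg]
    exact neg_one_mul _

theorem twist (h : Good z E Q χ) (hz : z ∈ Subgroup.center G) {E' Q' : Subgroup G} (g : G)
    (hE : ∀ x, x ∈ E' ↔ g * x * g⁻¹ ∈ E) (hQ : ∀ x, x ∈ Q' ↔ g * x * g⁻¹ ∈ Q) :
    Good z E' Q' fun x => χ (g * x * g⁻¹) := by
  refine ⟨fun x hx => (hQ x).mpr (h.le ((hE x).mp hx)),
    isCharacter_comp (conjEquiv g hQ).toMonoidHom h.char,
    (isIrrCharacter_comp_mulEquiv (conjEquiv g hE)).mpr h.irr, ?_⟩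
  simp only [Subgroup.mem_center_iff.mp hz g, mul_inv_cancel_right, mul_one, mul_inv_cancel,
    h.neg]

theorem mul_linear (h : Good z E Q χ) (hz : z ∈ E) {ν : G → ℂ}
    (hν : Cfsg.IsCharacter Q (res Q ν)) (hνE : ∀ e ∈ E, ν e = 1) : Good z E Q (ν * χ) := by
  have h2 : res E (ν * χ) = res E χ := funext fun e => by
    simp [res, hνE e e.2]
  refine ⟨h.le, isCharacter_mul hν h.char, h2 ▸ h.irr, ?_⟩
  simp [hνE z hz, hνE 1 (one_mem E), h.neg]

/-- Two extensions differ by a linear character trivial on `E`. -/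
theorem differ (h : Good z E Q χ) (h' : Good z E Q χ') (hE : Base z E)
    (hQ : Q ≤ Subgroup.normalizer (E : Set G)) :
    ∃ ν : G → ℂ, Cfsg.IsCharacter Q (res Q ν) ∧ (∀ e ∈ E, ν e = 1) ∧
      (∀ x ∈ Q, ∀ y ∈ Q, ν (x * y) = ν x * ν y) ∧ ∀ x ∈ Q, χ' x = ν x * χ x := by
  haveI := Fintype.ofFinite Q
  haveI := Fintype.ofFinite (E.subgroupOf Q)
  haveI : (E.subgroupOf Q).Normal := Subgroup.normal_subgroupOf_of_le_normalizer hQ
  have hθ : Cfsg.IsIrrCharacter (E.subgroupOf Q) (fun n => χ ((n : Q) : G)) :=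
    (isIrrCharacter_comp_mulEquiv (Subgroup.subgroupOfEquivOfLe h.le)).mpr h.irr
  obtain ⟨lam, hl, hl1, hlN, hmul⟩ := ExtendChar.extension_eq_linear_mul (E.subgroupOf Q) hθ h.irrQ
    (fun n => rfl) h'.irrQ (fun n => (h.agree h' hE (Subgroup.mem_subgroupOf.mp n.2)).symm)
  refine ⟨ext0 Q lam, by rw [res_ext0]; exact hl, fun e he => ?_, fun x hx y hy => ?_,
    fun x hx => ?_⟩
  · rw [ext0_apply _ _ (h.le he)]
    exact hlN ⟨⟨e, h.le he⟩, he⟩
  · rw [ext0_apply _ _ hx, ext0_apply _ _ hy, ext0_apply _ _ (mul_mem hx hy)]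
    exact char_mul_of_degree_one hl hl1 ⟨x, hx⟩ ⟨y, hy⟩
  · rw [ext0_apply _ _ hx]
    exact (congrFun hmul ⟨x, hx⟩).symm

/-- An invariant extension extends further over a cyclic quotient. -/
theorem extend_cyclic (h : Good z E Q χ) (hz : z ∈ E) (hQ : Q ≤ Q')
    (hnQ : Q' ≤ Subgroup.normalizer (Q : Set G))
    (hinv : ∀ g ∈ Q', ∀ x ∈ Q, χ (g * x * g⁻¹) = χ x) {t : G} (ht : t ∈ Q')
    (hgen : Q' ≤ Q ⊔ zpowers t) :
    ∃ χ', Good z E Q' χ' ∧ ∀ x ∈ Q, χ' x = χ x := by
  haveI := Fintype.ofFinite Q'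
  haveI : (Q.subgroupOf Q').Normal := Subgroup.normal_subgroupOf_of_le_normalizer hnQ
  have hθ : Cfsg.IsIrrCharacter (Q.subgroupOf Q') (fun n => χ ((n : Q') : G)) :=
    (isIrrCharacter_comp_mulEquiv (Subgroup.subgroupOfEquivOfLe hQ)).mpr h.irrQ
  have hinv' : ∀ g : Q', Clifford.conjBy (Q.subgroupOf Q') g
      (fun n : Q.subgroupOf Q' => χ ((n : Q') : G)) = fun n : Q.subgroupOf Q' => χ ((n : Q') : G) :=
    fun g => funext fun n => by
    rw [Clifford.conjBy_apply]
    exact hinv g g.2 _ (Subgroup.mem_subgroupOf.mp n.2)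
  have hcyc : IsCyclic (↥Q' ⧸ Q.subgroupOf Q') := by
    refine ⟨⟨((⟨t, ht⟩ : Q') : ↥Q' ⧸ Q.subgroupOf Q'), fun w => ?_⟩⟩
    induction w using QuotientGroup.induction_on with
    | H w =>
      obtain ⟨q, hq, v, hv, hqv⟩ := (Coprime.mem_sup_of_le_normalizer
        (zpowers_le_of_mem (hnQ ht))).mp (hgen w.2)
      obtain ⟨k, rfl⟩ := Subgroup.mem_zpowers_iff.mp hv
      refine Subgroup.mem_zpowers_iff.mpr ⟨k, ?_⟩
      rw [← QuotientGroup.mk_zpow, QuotientGroup.eq, Subgroup.mem_subgroupOf]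
      have hcomp : (t ^ k)⁻¹ * q * (t ^ k) ∈ Q := by
        have := (Subgroup.mem_normalizer_iff.mp
          (hnQ (inv_mem (zpow_mem ht k))) q).mp hq
        simpa using this
      simpa [← hqv, mul_assoc] using hcomp
  obtain ⟨f, hf, hfN⟩ := ExtendChar.exists_extension_cyclic (Q.subgroupOf Q') hcyc hθ hinv'
  refine ⟨ext0 Q' f, ?_, fun x hx => ?_⟩
  · have he : ∀ x ∈ Q, ext0 Q' f x = χ x := fun x hx => by
      rw [ext0_apply _ _ (hQ hx)]; exact hfN ⟨⟨x, hQ hx⟩, hx⟩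
    refine ⟨h.le.trans hQ, by rw [res_ext0]; exact isCharacter_of_isIrr hf, ?_, ?_⟩
    · rw [show res E (ext0 Q' f) = res E χ from funext fun e => he e (h.le e.2)]
      exact h.irr
    · rw [he z (h.le hz), he 1 (one_mem Q), h.neg]
  · rw [ext0_apply _ _ (hQ hx)]; exact hfN ⟨⟨x, hQ hx⟩, hx⟩

/-- The degenerate case `E = ⟨z⟩`. -/
theorem exists_trivial (hE : Base z E) (hEZ : E ≤ zpowers z) {S : Subgroup G}
    (hd : E ⊓ S = ⊥) : ∃ χ, Good z E (E ⊔ S) χ := by
  classical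
  have hcase : ∀ x ∈ E ⊔ S, (x ∈ S ↔ z * x ∉ S) := by
    intro x hx
    have hzS : z ∉ S := fun h => hE.ne (by
      simpa [hd] using (Subgroup.mem_inf.mpr ⟨hE.mem, h⟩ : z ∈ E ⊓ S))
    constructor
    · exact fun hxS h => hzS (by simpa using mul_mem h (inv_mem hxS))
    · intro h
      obtain ⟨a, ha, s, hs, rfl⟩ := (Coprime.mem_sup_of_le_normalizer (N := E) (H := S)
        (Subgroup.le_normalizer_iff.mpr fun s _ a ha => by
          rw [hE.commute_zpowers (hEZ ha) s, mul_inv_cancel_right]; exact ha)).mp hx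
      rcases hE.mem_zpowers_iff'.mp (hEZ ha) with rfl | rfl
      · rwa [one_mul]
      · rw [← mul_assoc, hE.sq, one_mul] at h
        exact absurd hs h
  have hzm : ∀ x : G, z * x = x * z := fun x => (Subgroup.mem_center_iff.mp hE.central x).symm
  let sgn : ↥(E ⊔ S) → ℂˣ := fun x => if (x : G) ∈ S then 1 else -1
  let f : ↥(E ⊔ S) →* ℂˣ :=
    { toFun := sgn
      map_one' := by simp [sgn, one_mem]
      map_mul' := fun x y => by
        simp only [sgn, Subgroup.coe_mul]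
        by_cases hx : (x : G) ∈ S <;> by_cases hy : (y : G) ∈ S
        · simp [hx, hy, mul_mem hx hy]
        · have : (x : G) * y ∉ S := fun h => hy (by simpa using mul_mem (inv_mem hx) h)
          simp [hx, hy, this]
        · have : (x : G) * y ∉ S := fun h => hx (by simpa using mul_mem h (inv_mem hy))
          simp [hx, hy, this]
        · have hx' := not_not.mp (mt (hcase x x.2).mpr hx)
          have hy' := not_not.mp (mt (hcase y y.2).mpr hy)
          have : (x : G) * y ∈ S := by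
            have h := mul_mem hx' hy'
            rwa [show z * (x : G) * (z * y) = (z * z) * (x * y) by
              rw [mul_assoc, ← mul_assoc (x : G), ← hzm x]; group, hE.sq, one_mul] at h
          simp [hx, hy, this] }
  refine ⟨ext0 _ (fun x => (f x : ℂ)), le_sup_left, ?_, ?_, ?_⟩
  · rw [res_ext0]; exact isCharacter_linear f
  · have h1 : res E (ext0 (E ⊔ S) fun x => (f x : ℂ)) =
        fun e => ((f.comp (Subgroup.inclusion le_sup_left)) e : ℂ) := funext fun e => by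
      rw [res, ext0_apply _ _ (Subgroup.mem_sup_left e.2)]; rfl
    rw [h1]
    exact isIrrCharacter_linear _
  · rw [ext0_apply _ _ (Subgroup.mem_sup_left hE.mem), ext0_apply _ _ (one_mem _)]
    have hzS : z ∉ S := fun h => hE.ne (by
      simpa [hd] using (Subgroup.mem_inf.mpr ⟨hE.mem, h⟩ : z ∈ E ⊓ S))
    simp [f, sgn, hzS, one_mem]

/-- A fixed-point-free element has values of absolute value one. -/
theorem mul_conj_eq_one (h : Good z E Q χ) (hE : Base z E)
    (hQ : Q ≤ Subgroup.normalizer (E : Set G)) {x : G} (hx : x ∈ Q)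
    (h1 : ∀ e ∈ E, Commute e x → e ∈ zpowers z)
    (h2 : ∀ e ∈ E, Commute e (x * x) → e ∈ zpowers z) : χ x * conj (χ x) = 1 := by
  classical
  haveI := Fintype.ofFinite E
  haveI := Fintype.ofFinite Q
  haveI := Fintype.ofFinite (E.subgroupOf Q)
  haveI : (E.subgroupOf Q).Normal := Subgroup.normal_subgroupOf_of_le_normalizer hQ
  have hθ : Cfsg.IsIrrCharacter (E.subgroupOf Q) (fun n => res Q χ n) :=
    (isIrrCharacter_comp_mulEquiv (Subgroup.subgroupOfEquivOfLe h.le)).mpr h.irr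
  have hq := congrFun (Average.quotChar_self (E.subgroupOf Q) h.irrQ hθ) ⟨x, hx⟩
  rw [Average.quotChar_apply] at hq
  have hzc : ∀ y, y * z = z * y := Subgroup.mem_center_iff.mp hE.central
  -- every element of `E x` is conjugate to `x` or to `z x`
  have hxE : ∀ y ∈ E, y * x * y⁻¹ * x⁻¹ ∈ E := fun y hy => by
    rw [mul_assoc, mul_assoc, ← mul_assoc x]
    exact E.mul_mem hy ((Subgroup.le_normalizer_iff.mp hQ) x hx _ (inv_mem hy))
  let F : E × Bool → E := fun p => ⟨(if p.2 then z else 1) * (p.1 * x * (p.1 : G)⁻¹ * x⁻¹),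
    E.mul_mem (by split_ifs; exacts [hE.mem, one_mem E]) (hxE p.1 p.1.2)⟩
  have hsurj : Function.Surjective F := by
    have hfib : ∀ b ∈ Finset.univ.image F, (Finset.univ.filter fun p => F p = b).card ≤ 2 := by
      intro b hb
      obtain ⟨⟨y, c⟩, -, rfl⟩ := Finset.mem_image.mp hb
      refine (Finset.card_le_card (t := {(y, c), (⟨z, hE.mem⟩ * y, c)}) ?_).trans Finset.card_le_two
      rintro ⟨y', c'⟩ hp
      have he : (if c' then z else 1) * ((y' : G) * x * (y' : G)⁻¹ * x⁻¹) =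
          (if c then z else 1) * ((y : G) * x * (y : G)⁻¹ * x⁻¹) :=
        congrArg Subtype.val (Finset.mem_filter.mp hp).2
      simp only [Finset.mem_insert, Finset.mem_singleton, Prod.mk.injEq]
      have hsame : (y' : G) * x * (y' : G)⁻¹ = (y : G) * x * (y : G)⁻¹ →
          y' = y ∨ y' = ⟨z, hE.mem⟩ * y := fun he' => by
        have hc' : Commute ((y : G)⁻¹ * y') x := by
          change (y : G)⁻¹ * y' * x = x * ((y : G)⁻¹ * y')
          calc (y : G)⁻¹ * y' * x = (y : G)⁻¹ * ((y' : G) * x * (y' : G)⁻¹) * y' := by group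
            _ = (y : G)⁻¹ * ((y : G) * x * (y : G)⁻¹) * y' := by rw [he']
            _ = x * ((y : G)⁻¹ * y') := by group
        rcases hE.mem_zpowers_iff'.mp (h1 _ (mul_mem (inv_mem y.2) y'.2) hc') with h0 | h0
        · exact Or.inl (Subtype.ext (inv_mul_eq_one.mp h0).symm)
        · refine Or.inr (Subtype.ext ?_)
          rw [Subgroup.coe_mul, ← hzc]
          exact (inv_mul_eq_iff_eq_mul.mp h0)
      have hdiff : ∀ y y' : E, z * ((y : G) * x * (y : G)⁻¹ * x⁻¹) ≠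
          (y' : G) * x * (y' : G)⁻¹ * x⁻¹ := fun y y' he' => by
        rw [← mul_assoc, mul_left_inj] at he'
        set u := (y : G)⁻¹ * y'
        have hu : u * x * u⁻¹ = z * x := by
          calc u * x * u⁻¹ = (y : G)⁻¹ * ((y' : G) * x * (y' : G)⁻¹) * y := by
                simp only [u]; group
            _ = (y : G)⁻¹ * (z * ((y : G) * x * (y : G)⁻¹)) * y := by rw [he']
            _ = z * x := by rw [← mul_assoc ((y : G)⁻¹) z, hzc]; group
        have hu2 : Commute u (x * x) := by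
          change u * (x * x) = x * x * u
          calc u * (x * x) = (u * x * u⁻¹) * (u * x * u⁻¹) * u := by group
            _ = z * x * (z * x) * u := by rw [hu]
            _ = (z * z) * (x * x) * u := by rw [mul_assoc z x, ← mul_assoc x z, hzc x]; group
            _ = x * x * u := by rw [hE.sq, one_mul]
        have := hE.commute_zpowers (h2 _ (mul_mem (inv_mem y.2) y'.2) hu2) x
        rw [← this, mul_inv_cancel_right] at hu
        exact hE.ne (right_eq_mul.mp hu)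
      cases c <;> cases c'
      · simp only [Bool.false_eq_true, if_false, one_mul, mul_left_inj] at he
        rcases hsame he with h0 | h0
        exacts [Or.inl ⟨h0, rfl⟩, Or.inr ⟨h0, rfl⟩]
      · simp only [Bool.false_eq_true, if_false, if_true, one_mul] at he
        exact absurd he (hdiff _ _)
      · simp only [Bool.false_eq_true, if_false, if_true, one_mul] at he
        exact absurd he.symm (hdiff _ _)
      · simp only [if_true, mul_right_inj, mul_left_inj] at he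
        rcases hsame he with h0 | h0
        exacts [Or.inl ⟨h0, rfl⟩, Or.inr ⟨h0, rfl⟩]
    have hcard := Finset.card_le_mul_card_image Finset.univ 2 hfib
    rw [Finset.card_univ, Fintype.card_prod, Fintype.card_bool] at hcard
    have : Finset.univ.image F = Finset.univ :=
      Finset.eq_univ_of_card _ (le_antisymm (Finset.card_le_univ _) (by omega))
    exact fun b => by
      obtain ⟨p, -, hp⟩ := Finset.mem_image.mp (this ▸ Finset.mem_univ b)
      exact ⟨p, hp⟩
  have hval : ∀ n : E.subgroupOf Q,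
      res Q χ ((n : Q) * ⟨x, hx⟩) * conj (res Q χ ((n : Q) * ⟨x, hx⟩)) = χ x * conj (χ x) := by
    intro n
    obtain ⟨⟨y, c⟩, hy⟩ := hsurj ⟨((n : Q) : G), Subgroup.mem_subgroupOf.mp n.2⟩
    have hy' : ((n : Q) : G) * x = (if c then z else 1) * ((y : G) * x * (y : G)⁻¹) := by
      rw [← congrArg Subtype.val hy]; simp only [F]; group
    have hmem : (y : G) * x * (y : G)⁻¹ ∈ Q :=
      Q.mul_mem (Q.mul_mem (h.le y.2) hx) (inv_mem (h.le y.2))
    simp only [res, Subgroup.coe_mul, hy']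
    cases c
    · rw [if_neg Bool.false_ne_true, one_mul, h.class_apply (h.le y.2) hx]
    · rw [if_pos rfl, h.mul_z hE.mem hmem, h.class_apply (h.le y.2) hx, map_neg, neg_mul_neg]
  rw [Finset.sum_congr rfl fun n _ => hval n, Finset.sum_const, Finset.card_univ, nsmul_eq_mul,
    ← Nat.card_eq_fintype_card, inv_mul_cancel_left₀ natCard_ne_zero] at hq
  exact hq

/-- Product of extensions for two commuting central factors. -/
theorem combine {X Y S : Subgroup G} (hE : Base z E) (hzX : z ∈ X)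
    (hsup : X ⊔ Y = E) (hi : X ⊓ Y ≤ zpowers z) (hXY : X ≤ Subgroup.centralizer (Y : Set G))
    (hSX : S ≤ Subgroup.normalizer (X : Set G)) (hSY : S ≤ Subgroup.normalizer (Y : Set G))
    (hd : E ⊓ S = ⊥) {ψ₁ ψ₂ : G → ℂ} (h₁ : Good z X (X ⊔ S) ψ₁) (h₂ : Good z Y (Y ⊔ S) ψ₂) :
    ∃ χ, Good z E (E ⊔ S) χ ∧
      ∀ a ∈ X, ∀ b ∈ Y, ∀ s ∈ S, χ (a * b * s) = ψ₁ (a * s) * ψ₂ (b * s) := by
  classical
  have hXE : X ≤ E := hsup ▸ le_sup_left
  have hYE : Y ≤ E := hsup ▸ le_sup_right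
  let F : Subgroup (G × G) :=
    { carrier := {p | ∃ a ∈ X, ∃ b ∈ Y, ∃ s ∈ S, p = (a * s, b * s)}
      one_mem' := ⟨1, one_mem _, 1, one_mem _, 1, one_mem _, by rw [one_mul]; rfl⟩
      mul_mem' := by
        rintro _ _ ⟨a, ha, b, hb, s, hs, rfl⟩ ⟨a', ha', b', hb', s', hs', rfl⟩
        exact ⟨a * (s * a' * s⁻¹), X.mul_mem ha ((Subgroup.le_normalizer_iff.mp hSX) s hs a' ha'),
          b * (s * b' * s⁻¹), Y.mul_mem hb ((Subgroup.le_normalizer_iff.mp hSY) s hs b' hb'),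
          s * s', S.mul_mem hs hs', by simp [mul_assoc]⟩
      inv_mem' := by
        rintro _ ⟨a, ha, b, hb, s, hs, rfl⟩
        refine ⟨s⁻¹ * a⁻¹ * s, ?_, s⁻¹ * b⁻¹ * s, ?_, s⁻¹, inv_mem hs, by simp [mul_assoc]⟩
        · simpa using (Subgroup.le_normalizer_iff.mp hSX) s⁻¹ (inv_mem hs) _ (inv_mem ha)
        · simpa using (Subgroup.le_normalizer_iff.mp hSY) s⁻¹ (inv_mem hs) _ (inv_mem hb) }
  have huniq : ∀ {a a' s s' : G}, a ∈ X → a' ∈ X → s ∈ S → s' ∈ S → a * s = a' * s' → s = s' := by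
    intro a a' s s' ha ha' hs hs' he
    have h1 : a'⁻¹ * a = s' * s⁻¹ := by
      rw [eq_mul_inv_iff_mul_eq, mul_assoc, he, inv_mul_cancel_left]
    have h0 : s' * s⁻¹ ∈ E ⊓ S :=
      Subgroup.mem_inf.mpr ⟨h1 ▸ E.mul_mem (inv_mem (hXE ha')) (hXE ha),
        S.mul_mem hs' (inv_mem hs)⟩
    rw [hd, Subgroup.mem_bot, mul_inv_eq_one] at h0
    exact h0.symm
  let Φ₀ : F → G := fun p =>
    (p.1).1 * (p.2.choose_spec.2.choose_spec.2.choose)⁻¹ * (p.1).2
  have hΦ₀ : ∀ (a b s : G) (ha : a ∈ X) (hb : b ∈ Y) (hs : s ∈ S),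
      Φ₀ ⟨(a * s, b * s), ⟨a, ha, b, hb, s, hs, rfl⟩⟩ = a * b * s := by
    intro a b s ha hb hs
    set p : F := ⟨(a * s, b * s), ⟨a, ha, b, hb, s, hs, rfl⟩⟩
    have h1 := p.2.choose_spec.2.choose_spec.2.choose_spec
    have h2 : p.2.choose_spec.2.choose_spec.2.choose = s :=
      (huniq ha p.2.choose_spec.1 hs h1.1 (Prod.ext_iff.mp h1.2).1).symm
    simp only [Φ₀, h2, p]
    group
  let Φ : F →* ↥(E ⊔ S) := MonoidHom.mk'
    (fun p => ⟨Φ₀ p, by
      obtain ⟨⟨x, y⟩, a, ha, b, hb, s, hs, he⟩ := p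
      obtain ⟨rfl, rfl⟩ := Prod.ext_iff.mp he
      rw [hΦ₀ a b s ha hb hs]
      exact mul_mem (Subgroup.mem_sup_left (E.mul_mem (hXE ha) (hYE hb)))
        (Subgroup.mem_sup_right hs)⟩)
    (by
      rintro ⟨⟨x, y⟩, a, ha, b, hb, s, hs, he⟩ ⟨⟨x', y'⟩, a', ha', b', hb', s', hs', he'⟩
      obtain ⟨rfl, rfl⟩ := Prod.ext_iff.mp he
      obtain ⟨rfl, rfl⟩ := Prod.ext_iff.mp he'
      refine Subtype.ext ?_
      simp only [Subgroup.coe_mul]
      have ha'' := (Subgroup.le_normalizer_iff.mp hSX) s hs a' ha'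
      have hb'' := (Subgroup.le_normalizer_iff.mp hSY) s hs b' hb'
      have hm : ((⟨(a * s, b * s), ⟨a, ha, b, hb, s, hs, rfl⟩⟩ : F) *
          ⟨(a' * s', b' * s'), ⟨a', ha', b', hb', s', hs', rfl⟩⟩ : F) =
          ⟨(a * (s * a' * s⁻¹) * (s * s'), b * (s * b' * s⁻¹) * (s * s')),
            ⟨_, X.mul_mem ha ha'', _, Y.mul_mem hb hb'', _, S.mul_mem hs hs', rfl⟩⟩ :=
        Subtype.ext (Prod.ext (by simp [mul_assoc]) (by simp [mul_assoc]))
      rw [hm, hΦ₀ _ _ _ (X.mul_mem ha ha'') (Y.mul_mem hb hb'') (S.mul_mem hs hs'),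
        hΦ₀ a b s ha hb hs, hΦ₀ a' b' s' ha' hb' hs']
      have hcomm : (s * a' * s⁻¹) * b = b * (s * a' * s⁻¹) := comm_of_le_centralizer hXY ha'' hb
      calc a * (s * a' * s⁻¹) * (b * (s * b' * s⁻¹)) * (s * s')
          = a * ((s * a' * s⁻¹) * b) * (s * b' * s⁻¹) * (s * s') := by group
        _ = a * (b * (s * a' * s⁻¹)) * (s * b' * s⁻¹) * (s * s') := by rw [hcomm]
        _ = a * b * s * (a' * b' * s') := by group)
  have hΦ : ∀ (a b s : G) (ha : a ∈ X) (hb : b ∈ Y) (hs : s ∈ S),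
      (Φ ⟨(a * s, b * s), ⟨a, ha, b, hb, s, hs, rfl⟩⟩ : G) = a * b * s := hΦ₀
  have hS : S ≤ Subgroup.normalizer (E : Set G) := by
    refine Subgroup.le_normalizer_iff.mpr fun s hs e he => ?_
    rw [← hsup] at he ⊢
    obtain ⟨a, ha, b, hb, rfl⟩ := (Coprime.mem_sup_of_le_normalizer
      (le_normalizer_of_le_centralizer (Subgroup.le_centralizer_iff.mp hXY))).mp he
    rw [show s * (a * b) * s⁻¹ = (s * a * s⁻¹) * (s * b * s⁻¹) by group]
    exact Subgroup.mul_mem_sup ((Subgroup.le_normalizer_iff.mp hSX) s hs a ha)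
      ((Subgroup.le_normalizer_iff.mp hSY) s hs b hb)
  have hsurj : Function.Surjective Φ := by
    rintro ⟨q, hq⟩
    obtain ⟨e, he, s, hs, rfl⟩ := (Coprime.mem_sup_of_le_normalizer hS).mp hq
    rw [← hsup] at he
    obtain ⟨a, ha, b, hb, rfl⟩ := (Coprime.mem_sup_of_le_normalizer
      (le_normalizer_of_le_centralizer (Subgroup.le_centralizer_iff.mp hXY))).mp he
    exact ⟨⟨_, ⟨a, ha, b, hb, s, hs, rfl⟩⟩, Subtype.ext (hΦ a b s ha hb hs)⟩
  have hF1 : ∀ p : F, (p : G × G).1 ∈ X ⊔ S := by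
    rintro ⟨_, a, ha, b, hb, s, hs, rfl⟩; exact Subgroup.mul_mem_sup ha hs
  have hF2 : ∀ p : F, (p : G × G).2 ∈ Y ⊔ S := by
    rintro ⟨_, a, ha, b, hb, s, hs, rfl⟩; exact Subgroup.mul_mem_sup hb hs
  let π₁ : F →* ↥(X ⊔ S) := ((MonoidHom.fst G G).comp F.subtype).codRestrict _ hF1
  let π₂ : F →* ↥(Y ⊔ S) := ((MonoidHom.snd G G).comp F.subtype).codRestrict _ hF2
  let ψ : F → ℂ := (res _ ψ₁ ∘ π₁) * (res _ ψ₂ ∘ π₂)
  have hψ : Cfsg.IsCharacter F ψ :=
    isCharacter_mul (isCharacter_comp π₁ h₁.char) (isCharacter_comp π₂ h₂.char)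
  have hψa : ∀ p : F, ψ p = ψ₁ (p : G × G).1 * ψ₂ (p : G × G).2 := fun _ => rfl
  have hker : ∀ p ∈ Φ.ker, ψ p = ψ 1 := by
    rintro ⟨_, a, ha, b, hb, s, hs, rfl⟩ hp
    have h0 : a * b * s = 1 := (hΦ a b s ha hb hs).symm.trans (congrArg Subtype.val hp)
    have hs1 : s = 1 := by
      have hm : s ∈ E ⊓ S := Subgroup.mem_inf.mpr
        ⟨by rw [eq_inv_of_mul_eq_one_right h0]; exact inv_mem (E.mul_mem (hXE ha) (hYE hb)), hs⟩
      rwa [hd, Subgroup.mem_bot] at hm
    subst hs1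
    rw [mul_one] at h0
    obtain rfl : b = a⁻¹ := eq_inv_of_mul_eq_one_right h0
    rcases hE.mem_zpowers_iff'.mp (hi ⟨ha, by simpa using inv_mem hb⟩) with rfl | rfl
    · simp [hψa]
    · simp [hψa, inv_eq_of_mul_eq_one_right hE.sq, h₁.neg, h₂.neg]
  obtain ⟨f, hf, hfΦ, -⟩ := exists_deflate Φ hsurj hψ hker
  refine ⟨ext0 _ f, ?_, fun a ha b hb s hs => ?_⟩
  rotate_left
  · have := congrFun hfΦ ⟨(a * s, b * s), ⟨a, ha, b, hb, s, hs, rfl⟩⟩
    rw [Function.comp_apply] at this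
    rw [ext0_apply _ _ (mul_mem (Subgroup.mem_sup_left (E.mul_mem (hXE ha) (hYE hb)))
      (Subgroup.mem_sup_right hs))]
    exact (congrArg f (Subtype.ext (hΦ a b s ha hb hs).symm)).trans this
  have hval : ∀ a ∈ X, ∀ b ∈ Y, ext0 (E ⊔ S) f (a * b) = ψ₁ a * ψ₂ b := fun a ha b hb => by
    have := congrFun hfΦ ⟨(a * 1, b * 1), ⟨a, ha, b, hb, 1, one_mem _, rfl⟩⟩
    rw [Function.comp_apply] at this
    rw [ext0_apply _ _ (Subgroup.mem_sup_left (E.mul_mem (hXE ha) (hYE hb)))]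
    refine ((congrArg f (Subtype.ext ?_)).trans this).trans (by simp [hψa])
    rw [hΦ a b 1 ha hb (one_mem _), mul_one]
  refine ⟨le_sup_left, by rw [res_ext0]; exact hf, ?_, ?_⟩
  rotate_left
  · have h0 := hval 1 (one_mem _) 1 (one_mem _)
    have h1 := hval z hzX 1 (one_mem _)
    rw [mul_one] at h0 h1
    rw [h1, h0, h₁.neg, neg_mul]
  -- the norm of the restriction to `E` is the product of the two norms
  haveI := Fintype.ofFinite E
  haveI := Fintype.ofFinite X
  haveI := Fintype.ofFinite Y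
  let m : ↥X × ↥Y →* ↥E := MonoidHom.mk'
    (fun p => ⟨p.1 * p.2, E.mul_mem (hXE p.1.2) (hYE p.2.2)⟩)
    (fun p q => Subtype.ext (by
      have := comm_of_le_centralizer hXY q.1.2 p.2.2
      simp only [Prod.fst_mul, Prod.snd_mul, Subgroup.coe_mul]
      rw [mul_assoc, ← mul_assoc (q.1 : G), this]
      group))
  have hm : Function.Surjective m := by
    rintro ⟨e, he⟩
    rw [← hsup] at he
    obtain ⟨a, ha, b, hb, rfl⟩ := (Coprime.mem_sup_of_le_normalizer
      (le_normalizer_of_le_centralizer (Subgroup.le_centralizer_iff.mp hXY))).mp he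
    exact ⟨(⟨a, ha⟩, ⟨b, hb⟩), rfl⟩
  have hc : Cfsg.IsCharacter E (res E (ext0 (E ⊔ S) f)) := by
    have : res E (ext0 (E ⊔ S) f) = f ∘ Subgroup.inclusion le_sup_left := funext fun e => by
      rw [res, ext0_apply _ _ (Subgroup.mem_sup_left e.2)]; rfl
    rw [this]
    exact isCharacter_comp _ hf
  refine isIrr_of_isCharacter_of_norm_one hc ?_
  rw [← classInner_comp_surjective m hm]
  have e1 := classInner_isIrr_self h₁.irr
  have e2 := classInner_isIrr_self h₂.irr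
  rw [classInner_def] at e1 e2 ⊢
  have e3 : ∀ p : ↥X × ↥Y,
      (res E (ext0 (E ⊔ S) f) ∘ m) p * conj ((res E (ext0 (E ⊔ S) f) ∘ m) p) =
        (res X ψ₁ p.1 * conj (res X ψ₁ p.1)) * (res Y ψ₂ p.2 * conj (res Y ψ₂ p.2)) := fun p => by
    change ext0 (E ⊔ S) f ((p.1 : G) * p.2) * conj (ext0 (E ⊔ S) f ((p.1 : G) * p.2)) = _
    rw [hval _ p.1.2 _ p.2.2, map_mul, res, res]
    ring
  rw [Finset.sum_congr rfl fun p _ => e3 p, Fintype.sum_prod_type]
  dsimp only
  rw [← Finset.sum_mul_sum,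
    Nat.card_prod, Nat.cast_mul, mul_inv, mul_mul_mul_comm, e1, e2, one_mul]

end Good

end Cfsg.Agent.DadeExt
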