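import Mathlib
import Cfsg.Agent.Lib.Characters.Kernel
import Cfsg.Agent.Lib.Characters.Inner
import Cfsg.Agent.Lib.CharTheory.ExtendChar

/-!
# Characters of `A × S` of absolute value one off `1 × S`

If `A` is abelian and a character `π` of `A × S` has absolute value one at all `(k, s)` with
`k ≠ 1`, then it is there a constant times a linear character.
-/

set_option autoImplicit false
set_option linter.style.haveILetI false
set_option linter.unusedSectionVars false

open scoped ComplexConjugate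

namespace Cfsg.Agent.DadeExt.Line

open Cfsg.Agent.Characters

universe u

/-- An integer vector with the least possible spread differs from a constant at one place. -/
theorem exists_deviant {ι : Type*} [Fintype ι] [DecidableEq ι] (d : ι → ℤ)
    (hι : 2 ≤ Fintype.card ι)
    (h : ∑ i, ∑ j, (d i - d j) ^ 2 = 2 * ((Fintype.card ι : ℤ) - 1)) :
    ∃ i₀, ∃ ε : ℤ, ε ^ 2 = 1 ∧ ∀ j, j ≠ i₀ → d i₀ - d j = ε := by
  obtain ⟨i₁, hi₁⟩ : ∃ i, ∑ j, (d i - d j) ^ 2 ≤ 1 := by
    by_contra hcon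
    push Not at hcon
    have hge : ∑ _i : ι, (2 : ℤ) ≤ ∑ i, ∑ j, (d i - d j) ^ 2 :=
      Finset.sum_le_sum fun i _ => hcon i
    rw [h, Finset.sum_const, Finset.card_univ, nsmul_eq_mul] at hge
    push_cast at hge
    linarith
  have hnn : ∀ j ∈ Finset.univ, 0 ≤ (d i₁ - d j) ^ 2 := fun j _ => sq_nonneg _
  obtain ⟨i₀, hi₀⟩ : ∃ j, d i₁ ≠ d j := by
    by_contra hcon
    push Not at hcon
    have h0 : ∑ i, ∑ j, (d i - d j) ^ 2 = 0 :=
      Finset.sum_eq_zero fun i _ => Finset.sum_eq_zero fun j _ => by rw [← hcon i, ← hcon j]; simp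
    rw [h0] at h
    have : (2 : ℤ) ≤ Fintype.card ι := by exact_mod_cast hι
    linarith
  have hne : (1 : ℤ) ≤ (d i₁ - d i₀) ^ 2 := by
    have : d i₁ - d i₀ ≠ 0 := sub_ne_zero.mpr hi₀
    have := sq_pos_of_ne_zero this
    omega
  rw [← Finset.add_sum_erase _ _ (Finset.mem_univ i₀)] at hi₁
  have hrest : 0 ≤ ∑ j ∈ Finset.univ.erase i₀, (d i₁ - d j) ^ 2 :=
    Finset.sum_nonneg fun j _ => sq_nonneg _
  have hzero : ∀ j, j ≠ i₀ → d j = d i₁ := by
    intro j hj
    have hle : (d i₁ - d j) ^ 2 ≤ ∑ j ∈ Finset.univ.erase i₀, (d i₁ - d j) ^ 2 :=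
      Finset.single_le_sum (f := fun j => (d i₁ - d j) ^ 2) (fun j _ => sq_nonneg _)
        (Finset.mem_erase.mpr ⟨hj, Finset.mem_univ j⟩)
    have h0 : (d i₁ - d j) ^ 2 = 0 := le_antisymm (by linarith) (sq_nonneg _)
    exact (sub_eq_zero.mp (sq_eq_zero_iff.mp h0)).symm
  refine ⟨i₀, d i₀ - d i₁, ?_, fun j hj => by rw [hzero j hj]⟩
  rw [sub_sq_comm]
  linarith

/-- The sum of all squared differences. -/
theorem sum_sub_sq {ι : Type*} [Fintype ι] (x : ι → ℂ) :
    ∑ i, ∑ j, (x i - x j) * conj (x i - x j) =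
      2 * (Fintype.card ι : ℂ) * (∑ i, x i * conj (x i)) - 2 * ((∑ i, x i) * conj (∑ i, x i)) := by
  have e : ∀ i j, (x i - x j) * conj (x i - x j) =
      x i * conj (x i) + x j * conj (x j) - (x i * conj (x j) + x j * conj (x i)) := fun i j => by
    rw [map_sub]; ring
  simp only [e, Finset.sum_add_distrib, Finset.sum_sub_distrib, Finset.sum_const, Finset.card_univ,
    nsmul_eq_mul, ← Finset.mul_sum, ← Finset.sum_mul, map_sum]
  ring

variable {S : Type u} [Group S] [Fintype S]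

/-- The norm of a difference of two characters is an integer, nonnegative, zero only for equal
characters. -/
theorem norm_sub_int {p q : S → ℂ} (hp : Cfsg.IsCharacter S p) (hq : Cfsg.IsCharacter S q) :
    ∃ n : ℤ, Cfsg.classInner (p - q) (p - q) = (n : ℂ) ∧ 0 ≤ n ∧ (p ≠ q → 1 ≤ n) := by
  obtain ⟨a, ha⟩ := classInner_char_nat hp hp
  obtain ⟨b, hb⟩ := classInner_char_nat hq hq
  obtain ⟨c, hc⟩ := classInner_char_nat hp hq
  obtain ⟨d, hd⟩ := classInner_char_nat hq hp
  have he : Cfsg.classInner (p - q) (p - q) = (((a : ℤ) - c - (d - b) : ℤ) : ℂ) := by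
    rw [classInner_sub_left, classInner_sub_right, classInner_sub_right, ha, hb, hc, hd]
    push_cast
    ring
  have hnn : (0 : ℝ) ≤ (((a : ℤ) - c - (d - b) : ℤ) : ℝ) := by
    have h2 : (Cfsg.classInner (p - q) (p - q)).re =
        (Nat.card S : ℝ)⁻¹ * ∑ s, Complex.normSq ((p - q) s) := by
      rw [classInner_def, show (Nat.card S : ℂ)⁻¹ = (((Nat.card S : ℝ)⁻¹ : ℝ) : ℂ) by push_cast; rfl,
        Complex.re_ofReal_mul, Complex.re_sum]
      exact congrArg _ (Finset.sum_congr rfl fun s _ => by rw [Complex.mul_conj, Complex.ofReal_re])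
    rw [he, Complex.intCast_re] at h2
    rw [h2]
    exact mul_nonneg (inv_nonneg.mpr (Nat.cast_nonneg _))
      (Finset.sum_nonneg fun _ _ => Complex.normSq_nonneg _)
  have hnn' : 0 ≤ (a : ℤ) - c - (d - b) := by exact_mod_cast hnn
  refine ⟨_, he, hnn', fun hne => ?_⟩
  by_contra hlt
  have h0 : (a : ℤ) - c - (d - b) = 0 := by omega
  rw [h0, Int.cast_zero, classInner_self_eq_zero] at he
  exact hne (sub_eq_zero.mp he)

/-- A difference of characters of norm one and absolute value one at `1` is a linear character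
up to sign. -/
theorem exists_linear {p q : S → ℂ} (hp : Cfsg.IsCharacter S p) (hq : Cfsg.IsCharacter S q)
    (hn : Cfsg.classInner (p - q) (p - q) = 1) (h1 : (p 1 - q 1) * conj (p 1 - q 1) = 1) :
    ∃ (a : ℂ) (L : S →* ℂˣ), a ≠ 0 ∧ ∀ s, p s - q s = a * (L s : ℂ) := by
  classical
  haveI := Fintype.ofFinite (Cfsg.IrrCharacter S)
  have hD : Cfsg.IsClassFunction S (p - q) := fun g h => by
    simp [char_isClassFunction hp g h, char_isClassFunction hq g h]
  have hint : ∀ ψ : Cfsg.IrrCharacter S, ∃ n : ℤ, Cfsg.classInner (p - q) (ψ : S → ℂ) = (n : ℂ) :=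
    fun ψ => by
    obtain ⟨a, ha⟩ := classInner_char_nat hp (irr_isCharacter ψ)
    obtain ⟨b, hb⟩ := classInner_char_nat hq (irr_isCharacter ψ)
    exact ⟨(a : ℤ) - b, by rw [classInner_sub_left, ha, hb]; push_cast; rfl⟩
  choose n hnψ using hint
  have hsum : ∑ ψ, (n ψ) ^ 2 = 1 := by
    have h2 := classInner_eq_sum (p - q) hD
    rw [hn] at h2
    have h3 : ∀ ψ : Cfsg.IrrCharacter S, Cfsg.classInner (p - q) (ψ : S → ℂ) *
        Cfsg.classInner (ψ : S → ℂ) (p - q) = ((n ψ ^ 2 : ℤ) : ℂ) := fun ψ => by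
      rw [classInner_conj_symm (p - q) (ψ : S → ℂ), hnψ, map_intCast]
      push_cast
      ring
    rw [Finset.sum_congr rfl fun ψ _ => h3 ψ] at h2
    exact_mod_cast h2.symm
  obtain ⟨ψ₀, hψ₀⟩ : ∃ ψ, n ψ ≠ 0 := by
    by_contra hcon
    push Not at hcon
    simp [hcon] at hsum
  have hothers : ∀ ψ, ψ ≠ ψ₀ → n ψ = 0 := by
    intro ψ hψ
    rw [← Finset.add_sum_erase _ _ (Finset.mem_univ ψ₀)] at hsum
    have hle : n ψ ^ 2 ≤ ∑ ψ ∈ Finset.univ.erase ψ₀, n ψ ^ 2 :=
      Finset.single_le_sum (f := fun ψ => n ψ ^ 2) (fun ψ _ => sq_nonneg _)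
        (Finset.mem_erase.mpr ⟨hψ, Finset.mem_univ ψ⟩)
    have hp0 := sq_pos_of_ne_zero hψ₀
    exact sq_eq_zero_iff.mp (le_antisymm (by omega) (sq_nonneg _))
  have hsq : n ψ₀ ^ 2 = 1 := by
    rw [← Finset.add_sum_erase _ _ (Finset.mem_univ ψ₀), Finset.sum_eq_zero fun ψ hψ => by
      rw [hothers ψ (Finset.ne_of_mem_erase hψ)]; rfl, add_zero] at hsum
    exact hsum
  have hval : ∀ s, p s - q s = (n ψ₀ : ℂ) * (ψ₀ : S → ℂ) s := by
    intro s
    have h4 := congrFun (classFun_eq_sum hD) s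
    rw [Finset.sum_apply, Finset.sum_eq_single ψ₀ (fun ψ _ hψ => by
      simp [hnψ, hothers ψ hψ]) (by simp)] at h4
    simpa [hnψ] using h4
  have hdeg : (ψ₀ : S → ℂ) 1 = 1 := by
    obtain ⟨k, hk0, hk⟩ := irr_one_pos ψ₀.2
    rw [hval, hk, map_mul, map_intCast, Complex.conj_natCast] at h1
    have h5 : (((n ψ₀ ^ 2) * (k : ℤ) ^ 2 : ℤ) : ℂ) = ((1 : ℤ) : ℂ) := by
      push_cast; linear_combination h1
    rw [hsq, one_mul, Int.cast_inj] at h5
    rw [hk]
    have : k = 1 := by nlinarith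
    simp [this]
  have hc := isCharacter_of_isIrr ψ₀.2
  let L : S →* ℂ :=
    { toFun := (ψ₀ : S → ℂ), map_one' := hdeg, map_mul' := char_mul_of_degree_one hc hdeg }
  exact ⟨(n ψ₀ : ℂ), L.toHomUnits, by exact_mod_cast hψ₀, fun s => by rw [hval]; rfl⟩

variable {A : Type u} [Group A] [Fintype A]

/-- The product of two characters is a character of the product. -/
theorem isCharacter_prod {μ : A → ℂ} {ψ : S → ℂ} (hμ : Cfsg.IsCharacter A μ)
    (hψ : Cfsg.IsCharacter S ψ) : Cfsg.IsCharacter (A × S) (fun p => μ p.1 * ψ p.2) :=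
  isCharacter_mul (isCharacter_comp (MonoidHom.fst A S) hμ)
    (isCharacter_comp (MonoidHom.snd A S) hψ)

/-- Main lemma. -/
theorem line (habel : ∀ a b : A, a * b = b * a) (hA : 2 ≤ Fintype.card A) {π : A × S → ℂ}
    (hπ : Cfsg.IsCharacter (A × S) π)
    (hone : ∀ k : A, k ≠ 1 → ∀ s, π (k, s) * conj (π (k, s)) = 1) :
    ∃ (c : ℂ) (L : A × S →* ℂˣ), c ≠ 0 ∧ ∀ k : A, k ≠ 1 → ∀ s, π (k, s) = c * (L (k, s) : ℂ) := by
  classical
  haveI := Fintype.ofFinite (Cfsg.IrrCharacter A)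
  have hcls : ∀ s, Cfsg.IsClassFunction A fun k => π (k, s) := fun s g h => by
    simp [habel h g]
  set P : Cfsg.IrrCharacter A → S → ℂ :=
    fun μ s => Cfsg.classInner (fun k => π (k, s)) (μ : A → ℂ)
  have hdeg : ∀ μ : Cfsg.IrrCharacter A, (μ : A → ℂ) 1 = 1 := fun μ =>
    irr_degree_one_of_comm habel μ.2
  have hcard : Fintype.card (Cfsg.IrrCharacter A) = Fintype.card A := by
    have h := sum_degree_sq (G := A)
    simp only [hdeg, one_pow, Finset.sum_const, Finset.card_univ, nsmul_eq_mul, mul_one,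
      Nat.card_eq_fintype_card] at h
    exact_mod_cast h
  have hPchar : ∀ μ, Cfsg.IsCharacter S (P μ) := fun μ => by
    refine isCharacter_of_classInner_nat (fun g h => ?_) fun ψ hψ => ?_
    · refine congrArg (fun f => Cfsg.classInner f (μ : A → ℂ)) (funext fun k => ?_)
      have := char_isClassFunction hπ (k, g) (1, h)
      simpa using this
    · obtain ⟨m, hm⟩ := classInner_char_nat hπ
        (isCharacter_prod (irr_isCharacter μ) (isCharacter_of_isIrr hψ))
      refine ⟨m, ?_⟩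
      rw [← hm, classInner_def, classInner_def, Nat.card_prod, Nat.cast_mul, mul_inv,
        Fintype.sum_prod_type_right, mul_assoc, mul_left_comm]
      simp only [P, classInner_def, map_mul, Finset.mul_sum, Finset.sum_mul]
      exact Finset.sum_congr rfl fun s _ => Finset.sum_congr rfl fun k _ => by ring
  have hexp : ∀ s k, π (k, s) = ∑ μ, P μ s * (μ : A → ℂ) k := fun s k => by
    have := congrFun (classFun_eq_sum (hcls s)) k
    rw [Finset.sum_apply] at this
    exact this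
  have hpar : ∀ s, ∑ μ, ∑ ν, (P μ s - P ν s) * conj (P μ s - P ν s) =
      2 * ((Fintype.card A : ℂ) - 1) := by
    intro s
    have hsq : (Fintype.card A : ℂ) * ∑ μ, P μ s * conj (P μ s) =
        π (1, s) * conj (π (1, s)) + ((Fintype.card A : ℂ) - 1) := by
      have h := classInner_eq_sum (f := fun k => π (k, s)) (fun k => π (k, s)) (hcls s)
      have h2 : ∀ μ : Cfsg.IrrCharacter A,
          Cfsg.classInner (μ : A → ℂ) (fun k => π (k, s)) = conj (P μ s) := fun μ => by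
        rw [classInner_conj_symm]
      simp only [h2] at h
      rw [← h, classInner_def, Nat.card_eq_fintype_card, mul_inv_cancel_left₀ (by
        exact_mod_cast (Fintype.card_pos (α := A)).ne'),
        ← Finset.add_sum_erase _ _ (Finset.mem_univ (1 : A)),
        Finset.sum_congr rfl fun k hk => hone k (Finset.ne_of_mem_erase hk) s, Finset.sum_const,
        Finset.card_erase_of_mem (Finset.mem_univ _), Finset.card_univ, nsmul_eq_mul, mul_one,
        Nat.cast_sub Fintype.card_pos, Nat.cast_one]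
    have hsum : ∑ μ, P μ s = π (1, s) := by
      rw [hexp s 1]
      exact Finset.sum_congr rfl fun μ _ => by rw [hdeg, mul_one]
    rw [sum_sub_sq (fun μ => P μ s), hsum, hcard, mul_assoc, hsq]
    ring
  choose d hd using fun μ => char_one_nat (hPchar μ)
  have hdsum : ∑ μ, ∑ ν, ((d μ : ℤ) - d ν) ^ 2 =
      2 * ((Fintype.card (Cfsg.IrrCharacter A) : ℤ) - 1) := by
    have h := hpar 1
    simp only [hd, map_sub, Complex.conj_natCast, ← hcard] at h
    have h2 : ((∑ μ, ∑ ν, ((d μ : ℤ) - d ν) ^ 2 : ℤ) : ℂ) =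
        ((2 * ((Fintype.card (Cfsg.IrrCharacter A) : ℤ) - 1) : ℤ) : ℂ) := by
      push_cast
      simpa [pow_two] using h
    exact_mod_cast h2
  obtain ⟨μ₀, ε, hε, hdev⟩ := exists_deviant (fun μ => (d μ : ℤ)) (by omega) hdsum
  choose n hn hn0 hn1 using fun μ ν => norm_sub_int (hPchar μ) (hPchar ν)
  have hε0 : ε ≠ 0 := fun h => by simp [h] at hε
  have hne : ∀ ν, ν ≠ μ₀ → P μ₀ ≠ P ν := fun ν hν he => by
    have := congrFun he 1
    rw [hd, hd, Nat.cast_inj] at this
    have h2 := hdev ν hν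
    simp only [this, sub_self] at h2
    exact hε0 h2.symm
  have htot : ∑ μ, ∑ ν, n μ ν = 2 * ((Fintype.card (Cfsg.IrrCharacter A) : ℤ) - 1) := by
    have h : ((∑ μ, ∑ ν, n μ ν : ℤ) : ℂ) =
        ((2 * ((Fintype.card (Cfsg.IrrCharacter A) : ℤ) - 1) : ℤ) : ℂ) := by
      push_cast
      simp only [← hn, classInner_def, ← Finset.mul_sum]
      rw [Finset.sum_congr rfl fun μ _ => Finset.sum_comm, Finset.sum_comm]
      simp only [Pi.sub_apply, hpar, Finset.sum_const, Finset.card_univ, nsmul_eq_mul, hcard]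
      rw [Nat.card_eq_fintype_card, inv_mul_cancel_left₀ (by
        exact_mod_cast (Fintype.card_pos (α := S)).ne')]
    exact_mod_cast h
  -- rows and column through `μ₀` already use up the total
  have hkey : ∀ μ ν, μ ≠ ν → ((μ = μ₀ ∨ ν = μ₀) → n μ ν = 1) ∧
      ((μ ≠ μ₀ ∧ ν ≠ μ₀) → n μ ν = 0) := by
    let w : Cfsg.IrrCharacter A → Cfsg.IrrCharacter A → ℤ := fun μ ν =>
      if μ = ν then 0 else if μ = μ₀ ∨ ν = μ₀ then 1 else 0
    have hw : ∀ μ ν, w μ ν ≤ n μ ν := by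
      intro μ ν
      simp only [w]
      split_ifs with h1 h2
      · exact hn0 μ ν
      · refine hn1 μ ν fun he => ?_
        rcases h2 with rfl | rfl
        exacts [hne ν (Ne.symm h1) he, hne μ h1 he.symm]
      · exact hn0 μ ν
    have hwd : ∀ μ ν, w μ ν = ((d μ : ℤ) - d ν) ^ 2 := by
      intro μ ν
      simp only [w]
      split_ifs with h1 h2
      · simp [h1]
      · rcases h2 with rfl | rfl
        · rw [hdev ν (Ne.symm h1), hε]
        · rw [← neg_sub, neg_sq, hdev μ h1, hε]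
      · push Not at h2
        have e1 := hdev μ h2.1
        have e2 := hdev ν h2.2
        rw [show (d μ : ℤ) - d ν = 0 by omega]
        rfl
    have hz : ∀ μ ν, n μ ν = w μ ν := by
      have h0 : ∑ μ, ∑ ν, (n μ ν - w μ ν) = 0 := by
        simp only [Finset.sum_sub_distrib, htot, hwd, hdsum, sub_self]
      intro μ ν
      have h1 := (Finset.sum_eq_zero_iff_of_nonneg fun μ _ => Finset.sum_nonneg fun ν _ =>
        sub_nonneg.mpr (hw μ ν)).mp h0 μ (Finset.mem_univ _)
      have h2 := (Finset.sum_eq_zero_iff_of_nonneg fun ν _ => sub_nonneg.mpr (hw μ ν)).mp h1 ν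
        (Finset.mem_univ _)
      linarith
    intro μ ν hμν
    refine ⟨fun h => ?_, fun h => ?_⟩
    · rw [hz]; simp [w, hμν, h]
    · rw [hz]; simp [w, hμν, h.1, h.2]
  obtain ⟨ν₀, hν₀⟩ : ∃ ν, ν ≠ μ₀ := Fintype.exists_ne_of_one_lt_card (by omega) μ₀
  have heq : ∀ ν, ν ≠ μ₀ → P ν = P ν₀ := by
    intro ν hν
    rcases eq_or_ne ν ν₀ with rfl | hνν
    · rfl
    by_contra hne'
    have := hn1 ν ν₀ hne'
    rw [(hkey ν ν₀ hνν).2 ⟨hν, hν₀⟩] at this
    omega
  have h1 : Cfsg.classInner (P μ₀ - P ν₀) (P μ₀ - P ν₀) = 1 := by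
    rw [hn, (hkey μ₀ ν₀ (Ne.symm hν₀)).1 (Or.inl rfl), Int.cast_one]
  have h2 : (P μ₀ 1 - P ν₀ 1) * conj (P μ₀ 1 - P ν₀ 1) = 1 := by
    have h3 := hdev ν₀ hν₀
    rw [hd, hd, map_sub, Complex.conj_natCast, Complex.conj_natCast,
      show ((d μ₀ : ℂ) - d ν₀) * ((d μ₀ : ℂ) - d ν₀) = (((d μ₀ : ℤ) - d ν₀) ^ 2 : ℤ) by
        push_cast; ring, h3, hε, Int.cast_one]
  obtain ⟨a, M, ha, hM⟩ := exists_linear (hPchar μ₀) (hPchar ν₀) h1 h2
  obtain ⟨μh, hμh⟩ := Cfsg.Agent.CharTheory.ExtendChar.exists_hom (irr_isCharacter μ₀) (hdeg μ₀)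
  refine ⟨a, (μh.comp (MonoidHom.fst A S)) * (M.comp (MonoidHom.snd A S)), ha, fun k hk s => ?_⟩
  have h0 : ∑ μ : Cfsg.IrrCharacter A, (μ : A → ℂ) k = 0 := by
    have h := second_orthogonality k 1
    rw [if_neg (fun hc => hk (isConj_one_left.mp hc))] at h
    simpa [hdeg] using h
  have hdiff : ∀ μ, P μ s * (μ : A → ℂ) k = P ν₀ s * (μ : A → ℂ) k +
      (if μ = μ₀ then (P μ₀ s - P ν₀ s) * (μ₀ : A → ℂ) k else 0) := fun μ => by
    split_ifs with h
    · rw [h]; ring
    · rw [heq μ h, add_zero]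
  rw [hexp s k, Finset.sum_congr rfl fun μ _ => hdiff μ, Finset.sum_add_distrib, ← Finset.mul_sum,
    h0, mul_zero, zero_add, Finset.sum_ite_eq' Finset.univ μ₀, if_pos (Finset.mem_univ μ₀), hM]
  simp only [MonoidHom.mul_apply, MonoidHom.coe_comp, Function.comp_apply, MonoidHom.coe_fst,
    MonoidHom.coe_snd, Units.val_mul, hμh]
  ring

end Cfsg.Agent.DadeExt.Line
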