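import Mathlib
import Cfsg.Agent.DadeExt.Good
import Cfsg.Agent.DadeExt.Line

/-!
# Fixed-point-free action of a group of odd prime order

If `A` has odd prime order and `C_E(A) = Z(E)`, the extension of the faithful character of `E` to
`E A S`, `S ≤ C_T(A)`, which is constant on `{k s | k ≠ 1}` is unique, hence invariant under `T`,
and so the character extends to `E T`.
-/

set_option autoImplicit false
set_option linter.style.haveILetI false
set_option linter.unusedSectionVars false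

open Subgroup
open scoped ComplexConjugate

namespace Cfsg.Agent.DadeExt

open Cfsg.Agent.Characters Cfsg.Agent.CharTheory

universe u

variable {G : Type u} [Group G]

/-- A maximal subgroup of a `2`-subgroup containing a given one. -/
theorem exists_index_two [Finite G] {S M₀ : Subgroup G} (hS : IsPGroup 2 S) (h : M₀ < S) :
    ∃ M : Subgroup G, M₀ ≤ M ∧ M < S ∧ S ≤ Subgroup.normalizer (M : Set G) ∧
      ∀ t ∈ S, t ∉ M → t * t ∈ M ∧ S ≤ M ⊔ zpowers t := by
  haveI : Fact (Nat.Prime 2) := ⟨Nat.prime_two⟩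
  have hne : M₀.subgroupOf S ≠ ⊤ := fun he => h.not_ge (Subgroup.subgroupOf_eq_top.mp he)
  obtain ⟨M, hM, hle⟩ := (eq_top_or_exists_le_coatom _).resolve_left hne
  have hnorm : Subgroup.normalizer (M : Set S) = ⊤ := by
    haveI := hS.isNilpotent
    exact hM.2 _ (lt_of_le_of_ne Subgroup.le_normalizer fun he =>
      hM.1 (normalizerCondition_iff_only_full_group_self_normalizing.mp
        normalizerCondition_of_isNilpotent M he.symm))
  haveI : M.Normal := Subgroup.normalizer_eq_top_iff.mp hnorm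
  have hidx : M.index = 2 := by
    obtain ⟨n, hn⟩ := IsPGroup.iff_card.mp (hS.to_subgroup M)
    obtain ⟨m, hm⟩ := IsPGroup.iff_card.mp hS
    have hlt : n < m := by
      rcases lt_or_ge n m with h1 | h1
      · exact h1
      · refine absurd (Subgroup.eq_top_of_card_eq M ?_) hM.1
        refine le_antisymm (Nat.le_of_dvd Nat.card_pos (Subgroup.card_subgroup_dvd_card M)) ?_
        rw [hn, hm]
        exact Nat.pow_le_pow_right (by norm_num) h1
    obtain ⟨K, hK, hMK⟩ := Sylow.exists_subgroup_card_pow_succ (p := 2) (n := n)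
      (hm ▸ pow_dvd_pow 2 (Nat.succ_le_of_lt hlt)) hn
    have hKtop : K = ⊤ := by
      refine hM.2 K (lt_of_le_of_ne hMK fun he => ?_)
      rw [← he, hn] at hK
      exact absurd (Nat.pow_right_injective le_rfl hK) (by omega)
    have h2 := M.card_mul_index
    rw [hn, ← Subgroup.card_top (G := S), ← hKtop, hK, pow_succ] at h2
    exact Nat.eq_of_mul_eq_mul_left (pow_pos (by norm_num) n) h2
  refine ⟨M.map S.subtype, fun x hx => ?_, ?_, ?_, fun t ht htM => ?_⟩
  · exact ⟨⟨x, h.le hx⟩, hle hx, rfl⟩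
  · refine lt_of_le_of_ne (Subgroup.map_subtype_le M) fun he => hM.1 ?_
    refine (Subgroup.map_injective S.subtype_injective) ?_
    rw [he, ← MonoidHom.range_eq_map, Subgroup.range_subtype]
  · refine Subgroup.le_normalizer_iff.mpr ?_
    rintro s hs _ ⟨m, hm, rfl⟩
    exact ⟨⟨s, hs⟩ * m * ⟨s, hs⟩⁻¹, Subgroup.Normal.conj_mem inferInstance m hm _, rfl⟩
  · have htM' : (⟨t, ht⟩ : S) ∉ M := fun hm => htM ⟨_, hm, rfl⟩
    refine ⟨⟨⟨t, ht⟩ * ⟨t, ht⟩, Subgroup.mul_self_mem_of_index_two hidx _, rfl⟩, fun s hs => ?_⟩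
    by_cases hsM : (⟨s, hs⟩ : S) ∈ M
    · exact Subgroup.mem_sup_left ⟨_, hsM, rfl⟩
    · have h2 : (⟨s, hs⟩ : S) * ⟨t, ht⟩ ∈ M := by
        rw [Subgroup.mul_mem_iff_of_index_two hidx]
        exact iff_of_false hsM htM'
      rw [show s = s * t * t⁻¹ by group]
      exact mul_mem (Subgroup.mem_sup_left ⟨_, h2, rfl⟩)
        (Subgroup.mem_sup_right (inv_mem (mem_zpowers t)))

/-- The hypotheses. -/
structure Cyc (z : G) (E A T : Subgroup G) : Prop where
  base : Base z E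
  prime : (Nat.card A).Prime
  odd : Odd (Nat.card A)
  normE : A ⊔ T ≤ Subgroup.normalizer (E : Set G)
  normA : T ≤ Subgroup.normalizer (A : Set G)
  two : IsPGroup 2 T
  fixed : ∀ e ∈ E, e ∈ Subgroup.centralizer (A : Set G) → e ∈ zpowers z
  disj : E ⊓ (A ⊔ T) = ⊥

namespace Cyc

variable [Finite G] {z : G} {E A T S : Subgroup G}

theorem three_le (h : Cyc z E A T) : 3 ≤ Nat.card A := by
  have := h.prime.two_le
  obtain ⟨k, hk⟩ := h.odd
  omega

theorem disjAS (h : Cyc z E A T) {x : G} (hxA : x ∈ A) (hxT : x ∈ T) : x = 1 := by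
  haveI : Fact (Nat.Prime 2) := ⟨Nat.prime_two⟩
  obtain ⟨n, hn⟩ := IsPGroup.iff_card.mp h.two
  have hd : Disjoint A T := Coprime.disjoint_of_coprime
    (by rw [hn]; exact Nat.Coprime.pow_right n (Nat.coprime_two_right.mpr h.odd))
  simpa [disjoint_iff.mp hd] using (Subgroup.mem_inf.mpr ⟨hxA, hxT⟩ : x ∈ A ⊓ T)

theorem zpowers_eq (h : Cyc z E A T) {k : G} (hk : k ∈ A) (hk1 : k ≠ 1) : zpowers k = A := by
  refine Subgroup.eq_of_le_of_card_ge (zpowers_le_of_mem hk) ?_
  rcases (Nat.dvd_prime h.prime).mp (Subgroup.card_dvd_of_le (zpowers_le_of_mem hk)) with h1 | h1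
  · exact absurd (zpowers_eq_bot.mp (Subgroup.card_eq_one.mp h1)) hk1
  · rw [h1]

/-- `k s` acts without fixed points. -/
theorem fpf (h : Cyc z E A T) {k s : G} (hk : k ∈ A) (hk1 : k ≠ 1) (hs : s ∈ T)
    (hc : Commute k s) {e : G} (he : e ∈ E) (hec : Commute e (k * s)) : e ∈ zpowers z := by
  haveI : Fact (Nat.Prime 2) := ⟨Nat.prime_two⟩
  obtain ⟨n, hn⟩ := h.two ⟨s, hs⟩
  have hn' : s ^ 2 ^ n = 1 := congrArg Subtype.val hn
  have h2 : Commute e (k ^ 2 ^ n) := by
    have := hec.pow_right (2 ^ n)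
    rwa [hc.mul_pow, hn', mul_one] at this
  have hk2 : k ^ 2 ^ n ≠ 1 := fun h0 => by
    have hd := orderOf_dvd_of_pow_eq_one h0
    rw [← Nat.card_zpowers, h.zpowers_eq hk hk1] at hd
    have := (Nat.prime_dvd_prime_iff_eq h.prime Nat.prime_two).mp
      (h.prime.dvd_of_dvd_pow hd)
    have := h.three_le
    omega
  refine h.fixed e he (mem_centralizer_iff.mpr fun a ha => ?_)
  rw [SetLike.mem_coe, ← h.zpowers_eq (pow_mem hk _) hk2] at ha
  obtain ⟨i, rfl⟩ := Subgroup.mem_zpowers_iff.mp ha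
  exact (h2.zpow_right i).symm.eq

theorem abel (h : Cyc z E A T) (a b : A) : a * b = b * a := by
  haveI := Fact.mk h.prime
  haveI := isCyclic_of_prime_card (rfl : Nat.card A = Nat.card A)
  exact (IsCyclic.commutative (α := A)).is_comm.comm a b

/-- The group `E A S`. -/
abbrev Q (E A S : Subgroup G) : Subgroup G := E ⊔ (A ⊔ S)

theorem normQ (h : Cyc z E A T) (hS : S ≤ T) : Q E A S ≤ Subgroup.normalizer (E : Set G) :=
  sup_le Subgroup.le_normalizer ((sup_le_sup_left hS A).trans h.normE)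

theorem mem_Q (h : Cyc z E A T) (hS : S ≤ T) {x : G} (hx : x ∈ Q E A S) :
    ∃ e ∈ E, ∃ k ∈ A, ∃ s ∈ S, x = e * (k * s) := by
  obtain ⟨e, he, y, hy, rfl⟩ := (Coprime.mem_sup_of_le_normalizer
    ((sup_le_sup_left hS A).trans h.normE)).mp hx
  obtain ⟨k, hk, s, hs, rfl⟩ := (Coprime.mem_sup_of_le_normalizer (hS.trans h.normA)).mp hy
  exact ⟨e, he, k, hk, s, hs, rfl⟩

theorem unique_Q (h : Cyc z E A T) (hS : S ≤ T) {e e' k k' s s' : G} (he : e ∈ E) (he' : e' ∈ E)
    (hk : k ∈ A) (hk' : k' ∈ A) (hs : s ∈ S) (hs' : s' ∈ S)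
    (hx : e * (k * s) = e' * (k' * s')) : k = k' ∧ s = s' := by
  have h1 : e'⁻¹ * e = k' * s' * (k * s)⁻¹ := by
    rw [eq_mul_inv_iff_mul_eq, mul_assoc, hx, inv_mul_cancel_left]
  have h0 : k' * s' * (k * s)⁻¹ ∈ E ⊓ (A ⊔ T) := Subgroup.mem_inf.mpr
    ⟨h1 ▸ E.mul_mem (inv_mem he') he,
      mul_mem (Subgroup.mul_mem_sup hk' (hS hs')) (inv_mem (Subgroup.mul_mem_sup hk (hS hs)))⟩
  rw [h.disj, Subgroup.mem_bot, mul_inv_eq_one] at h0
  have h2 : k⁻¹ * k' = s * s'⁻¹ := by
    rw [eq_mul_inv_iff_mul_eq, mul_assoc, h0, inv_mul_cancel_left]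
  have h3 := h.disjAS (A.mul_mem (inv_mem hk) hk') (h2 ▸ T.mul_mem (hS hs) (inv_mem (hS hs')))
  obtain rfl := inv_mul_eq_one.mp h3
  exact ⟨rfl, mul_left_cancel h0.symm⟩

/-- A normalised extension. -/
def Can (z : G) (E A S : Subgroup G) (χ : G → ℂ) : Prop :=
  Good z E (Q E A S) χ ∧ ∃ c : ℂ, c ≠ 0 ∧ ∀ k ∈ A, k ≠ 1 → ∀ s ∈ S, χ (k * s) = c

theorem can_unique (h : Cyc z E A T) (hS : S ≤ T) {χ χ' : G → ℂ} (hχ : Can z E A S χ)
    (hχ' : Can z E A S χ') {x : G} (hx : x ∈ Q E A S) : χ x = χ' x := by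
  obtain ⟨hg, c, hc0, hc⟩ := hχ
  obtain ⟨hg', c', -, hc'⟩ := hχ'
  obtain ⟨ν, -, hνE, hνmul, hν⟩ := hg.differ hg' h.base (h.normQ hS)
  have hA : ∀ {k}, k ∈ A → k ∈ Q E A S := fun hk => mem_sup_right (mem_sup_left hk)
  have hS' : ∀ {s}, s ∈ S → s ∈ Q E A S := fun hs => mem_sup_right (mem_sup_right hs)
  have hne : ∀ y ∈ Q E A S, ν y ≠ 0 := fun y hy h0 => by
    have := hνmul y hy y⁻¹ (inv_mem hy)
    rw [mul_inv_cancel, hνE 1 (one_mem E), h0, zero_mul] at this
    exact one_ne_zero this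
  have hprod : ∀ k ∈ A, k ≠ 1 → ∀ s ∈ S, ν k * ν s = c' / c := fun k hk hk1 s hs => by
    rw [← hνmul k (hA hk) s (hS' hs), eq_div_iff hc0, ← hc' k hk hk1 s hs, ← hc k hk hk1 s hs,
      hν _ (mul_mem (hA hk) (hS' hs))]
  have hνA : ∀ k ∈ A, ν k = 1 := by
    intro k hk
    by_cases hk1 : k = 1
    · rw [hk1, hνE 1 (one_mem E)]
    have hk2 : k * k ≠ 1 := fun h0 => by
      have hd : orderOf k ∣ 2 := orderOf_dvd_of_pow_eq_one (by rw [pow_two, h0])
      rw [← Nat.card_zpowers, h.zpowers_eq hk hk1] at hd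
      have := Nat.le_of_dvd two_pos hd
      have := h.three_le
      omega
    have h1 := hprod k hk hk1 1 (one_mem S)
    have h2 := hprod _ (mul_mem hk hk) hk2 1 (one_mem S)
    rw [← h1, hνE 1 (one_mem E), mul_one, mul_one, hνmul k (hA hk) k (hA hk)] at h2
    exact mul_right_cancel₀ (hne k (hA hk)) (by rw [h2, one_mul])
  have hνS : ∀ s ∈ S, ν s = 1 := by
    intro s hs
    obtain ⟨k, hk, hk1⟩ : ∃ k ∈ A, k ≠ 1 := by
      by_contra hcon
      push Not at hcon
      have : A = ⊥ := (Subgroup.eq_bot_iff_forall A).mpr hcon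
      exact h.prime.ne_one (Subgroup.card_eq_one.mpr this)
    have h1 := hprod k hk hk1 1 (one_mem S)
    have h2 := hprod k hk hk1 s hs
    rw [← h1, hνA k hk, hνE 1 (one_mem E), one_mul, one_mul] at h2
    exact h2
  obtain ⟨e, he, k, hk, s, hs, rfl⟩ := h.mem_Q hS hx
  rw [hν _ hx, hνmul e (mem_sup_left he) _ (mul_mem (hA hk) (hS' hs)),
    hνmul k (hA hk) s (hS' hs), hνE e he, hνA k hk, hνS s hs, one_mul, one_mul, one_mul]

/-- Conjugating by an element of `T` normalising `S` preserves the normalised extension. -/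
theorem can_conj (h : Cyc z E A T) (hS : S ≤ T) {χ : G → ℂ} (hχ : Can z E A S χ) {g : G}
    (hg : g ∈ T) (hgS : g ∈ Subgroup.normalizer (S : Set G)) {x : G} (hx : x ∈ Q E A S) :
    χ (g * x * g⁻¹) = χ x := by
  obtain ⟨hgood, c, hc0, hc⟩ := id hχ
  have hgA := h.normA hg
  have hgE := h.normE (mem_sup_right hg)
  have hgQ : g ∈ Subgroup.normalizer (Q E A S : Set G) :=
    Subgroup.mem_normalizer_iff.mpr fun y => by
      have key : ∀ g' ∈ T, g' ∈ Subgroup.normalizer (S : Set G) → ∀ y ∈ Q E A S,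
          g' * y * g'⁻¹ ∈ Q E A S := by
        intro g' hg' hg'S y hy
        obtain ⟨e, he, k, hk, s, hs, rfl⟩ := h.mem_Q hS hy
        rw [show g' * (e * (k * s)) * g'⁻¹ =
          (g' * e * g'⁻¹) * ((g' * k * g'⁻¹) * (g' * s * g'⁻¹)) by group]
        exact Subgroup.mul_mem_sup
          ((conj_mem_iff_of_normalizer (h.normE (mem_sup_right hg')) e).mp he)
          (Subgroup.mul_mem_sup ((conj_mem_iff_of_normalizer (h.normA hg') k).mp hk)
            ((conj_mem_iff_of_normalizer hg'S s).mp hs))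
      refine ⟨key g hg hgS y, fun hy => ?_⟩
      simpa [mul_assoc] using key g⁻¹ (inv_mem hg) (inv_mem hgS) _ hy
  refine h.can_unique hS (χ := fun y => χ (g * y * g⁻¹)) ?_ hχ hx
  refine ⟨hgood.twist h.base.central g (conj_mem_iff_of_normalizer hgE)
    (conj_mem_iff_of_normalizer hgQ), c, hc0, fun k hk hk1 s hs => ?_⟩
  change χ (g * (k * s) * g⁻¹) = c
  rw [show g * (k * s) * g⁻¹ = (g * k * g⁻¹) * (g * s * g⁻¹) by group]
  exact hc _ ((conj_mem_iff_of_normalizer hgA k).mp hk) (fun h0 => hk1 (conj_eq_one_iff.mp h0)) _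
    ((conj_mem_iff_of_normalizer hgS s).mp hs)

/-- Every extension to `E A S`, `S` centralising `A`, can be normalised. -/
theorem normalize (h : Cyc z E A T) (hS : S ≤ T) (hSA : S ≤ Subgroup.centralizer (A : Set G))
    {χ : G → ℂ} (hχ : Good z E (Q E A S) χ) : ∃ χ', Can z E A S χ' := by
  classical
  haveI := Fintype.ofFinite A
  haveI := Fintype.ofFinite S
  have hcomm : ∀ k ∈ A, ∀ s ∈ S, Commute k s := fun k hk s hs =>
    (comm_of_le_centralizer hSA hs hk).symm
  have hmemQ : ∀ {k s}, k ∈ A → s ∈ S → k * s ∈ Q E A S := fun hk hs =>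
    mem_sup_right (Subgroup.mul_mem_sup hk hs)
  let j : ↥A × ↥S →* ↥(Q E A S) := MonoidHom.mk'
    (fun p => ⟨p.1 * p.2, hmemQ p.1.2 p.2.2⟩)
    (fun p q => Subtype.ext (by
      simp only [Prod.fst_mul, Prod.snd_mul, Subgroup.coe_mul]
      rw [mul_assoc (p.1 : G) q.1, ← mul_assoc (q.1 : G), (hcomm _ q.1.2 _ p.2.2).eq]
      group))
  obtain ⟨c, L, hc0, hL⟩ := Line.line h.abel
    (by rw [← Nat.card_eq_fintype_card]; exact h.prime.two_le) (isCharacter_comp j hχ.char)
    (fun k hk s => by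
      have hk' : (k : G) ≠ 1 := fun h0 => hk (Subtype.ext h0)
      refine hχ.mul_conj_eq_one h.base (h.normQ hS) (hmemQ k.2 s.2) (fun e he hec => ?_)
        fun e he hec => ?_
      · exact h.fpf k.2 hk' (hS s.2) (hcomm _ k.2 _ s.2) he hec
      · refine h.fpf (mul_mem k.2 k.2) (fun h0 => ?_) (T.mul_mem (hS s.2) (hS s.2))
          (((hcomm _ k.2 _ s.2).mul_right (hcomm _ k.2 _ s.2)).mul_left
            ((hcomm _ k.2 _ s.2).mul_right (hcomm _ k.2 _ s.2))) he ?_
        · have hd : orderOf (k : G) ∣ 2 := orderOf_dvd_of_pow_eq_one (by rw [pow_two, h0])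
          rw [← Nat.card_zpowers, h.zpowers_eq k.2 hk'] at hd
          have := Nat.le_of_dvd two_pos hd
          have := h.three_le
          omega
        · rwa [show (k : G) * k * ((s : G) * s) = k * s * (k * s) by
            rw [mul_assoc (k : G) s, ← mul_assoc (s : G) k, ← (hcomm _ k.2 _ s.2).eq]; group])
  -- the linear character on `Q` extending `L`, trivial on `E`
  have hex : ∀ x : ↥(Q E A S), ∃ p : ↥A × ↥S, ∃ e ∈ E, (x : G) = e * (p.1 * p.2) := fun x => by
    obtain ⟨e, he, k, hk, s, hs, hx⟩ := h.mem_Q hS x.2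
    exact ⟨(⟨k, hk⟩, ⟨s, hs⟩), e, he, hx⟩
  choose pr hpr using hex
  have hpr' : ∀ (x : ↥(Q E A S)) (p : ↥A × ↥S) (e : G), e ∈ E → (x : G) = e * (p.1 * p.2) →
      pr x = p := fun x p e he hx => by
    obtain ⟨e', he', hx'⟩ := hpr x
    obtain ⟨h1, h2⟩ := h.unique_Q hS he' he (pr x).1.2 p.1.2 (pr x).2.2 p.2.2 (hx'.symm.trans hx)
    exact Prod.ext (Subtype.ext h1) (Subtype.ext h2)
  let f : ↥(Q E A S) →* ℂˣ := MonoidHom.mk' (fun x => (L (pr x))⁻¹) (fun x y => by
    obtain ⟨e, he, hx⟩ := hpr x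
    obtain ⟨e', he', hy⟩ := hpr y
    have hn := (sup_le_sup_left hS A).trans h.normE
      (Subgroup.mul_mem_sup (pr x).1.2 (pr x).2.2)
    rw [hpr' (x * y) (pr x * pr y)
      (e * (((pr x).1 : G) * (pr x).2 * e' * (((pr x).1 : G) * (pr x).2)⁻¹))
      (E.mul_mem he ((conj_mem_iff_of_normalizer hn e').mp he')) (by
        rw [Subgroup.coe_mul, hx, hy]
        simp only [Prod.fst_mul, Prod.snd_mul, Subgroup.coe_mul]
        have hcm := (hcomm _ (pr y).1.2 _ (pr x).2.2).eq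
        rw [show ((pr x).1 : G) * (pr y).1 * ((pr x).2 * (pr y).2) =
          (pr x).1 * (((pr y).1 : G) * (pr x).2) * (pr y).2 by group, hcm]
        group), map_mul, mul_inv])
  let ν : G → ℂ := ext0 (Q E A S) fun x => (f x : ℂ)
  have hνc : Cfsg.IsCharacter (Q E A S) (res (Q E A S) ν) := by
    rw [res_ext0]; exact isCharacter_linear f
  have hνE : ∀ e ∈ E, ν e = 1 := fun e he => by
    simp only [ν, ext0_apply _ _ (mem_sup_left he : e ∈ Q E A S)]
    have : pr ⟨e, mem_sup_left he⟩ = 1 := hpr' _ 1 e he (by simp)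
    simp [f, this]
  refine ⟨ν * χ, hχ.mul_linear h.base.mem hνc hνE, c, hc0, fun k hk hk1 s hs => ?_⟩
  have h1 : pr ⟨k * s, hmemQ hk hs⟩ = (⟨k, hk⟩, ⟨s, hs⟩) :=
    hpr' _ _ 1 (one_mem E) (by simp)
  have h2 := hL ⟨k, hk⟩ (fun h0 => hk1 (congrArg Subtype.val h0)) ⟨s, hs⟩
  have h2' : χ (k * s) = c * (L (⟨k, hk⟩, ⟨s, hs⟩) : ℂ) := h2
  rw [Pi.mul_apply, h2']
  simp only [ν, ext0_apply _ _ (hmemQ hk hs)]
  simp [f, h1, mul_comm c]

theorem exists_can (h : Cyc z E A T) (n : ℕ) : ∀ S : Subgroup G, Nat.card S ≤ n → S ≤ T →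
    S ≤ Subgroup.centralizer (A : Set G) → ∃ χ, Can z E A S χ := by
  induction n with
  | zero => intro S hS; exact absurd hS (Nat.not_le.mpr Nat.card_pos)
  | succ n ih =>
    intro S hSn hS hSA
    by_cases hbot : S = ⊥
    · subst hbot
      obtain ⟨θ, hθ⟩ := Good.exists_base h.base
      obtain ⟨k, hk, hk1⟩ : ∃ k ∈ A, k ≠ 1 := by
        by_contra hcon
        push Not at hcon
        exact h.prime.ne_one (Subgroup.card_eq_one.mpr ((Subgroup.eq_bot_iff_forall A).mpr hcon))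
      obtain ⟨χ, hχ, -⟩ := hθ.extend_cyclic h.base.mem (Q' := Q E A ⊥) le_sup_left (h.normQ hS)
        (fun g hg x hx => (hθ.agree (hθ.twist h.base.central g
          (conj_mem_iff_of_normalizer (h.normQ hS hg))
          (conj_mem_iff_of_normalizer (h.normQ hS hg))) h.base hx).symm)
        (t := k) (mem_sup_right (mem_sup_left hk))
        (by rw [h.zpowers_eq hk hk1]; simp [Q])
      exact h.normalize hS hSA hχ
    · obtain ⟨M, -, hMS, hMn, hMt⟩ := exists_index_two (h.two.to_le hS) (bot_lt_iff_ne_bot.mpr hbot)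
      obtain ⟨t, ht, htM⟩ := SetLike.exists_of_lt hMS
      obtain ⟨χ, hχ⟩ := ih M (Nat.lt_succ_iff.mp ((lt_of_le_of_ne (Subgroup.card_le_of_le hMS.le)
          fun he => hMS.ne (Subgroup.eq_of_le_of_card_ge hMS.le he.ge)).trans_le hSn))
        (hMS.le.trans hS) (hMS.le.trans hSA)
      have hQle : Q E A M ≤ Q E A S := sup_le_sup_left (sup_le_sup_left hMS.le A) E
      have hQn : Q E A S ≤ Subgroup.normalizer (Q E A M : Set G) := by
        refine sup_le (le_sup_left.trans Subgroup.le_normalizer) (sup_le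
          ((le_sup_left.trans le_sup_right).trans Subgroup.le_normalizer) ?_)
        intro s hs
        refine Subgroup.normalizer_inf_normalizer_le_normalizer_sup _ _ ⟨h.normE (mem_sup_right (hS hs)), ?_⟩
        exact Subgroup.normalizer_inf_normalizer_le_normalizer_sup _ _ ⟨h.normA (hS hs), hMn hs⟩
      have hinv : ∀ g ∈ Q E A S, ∀ x ∈ Q E A M, χ (g * x * g⁻¹) = χ x := by
        intro g hg x hx
        obtain ⟨e, he, k, hk, s, hs, rfl⟩ := h.mem_Q hS hg
        have hek : e * k ∈ Q E A M := mul_mem (mem_sup_left he) (mem_sup_right (mem_sup_left hk))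
        have hsx : s * x * s⁻¹ ∈ Q E A M :=
          (conj_mem_iff_of_normalizer (hQn (mem_sup_right (mem_sup_right hs))) x).mp hx
        rw [show e * (k * s) * x * (e * (k * s))⁻¹ = (e * k) * (s * x * s⁻¹) * (e * k)⁻¹ by group,
          hχ.1.class_apply hek hsx, h.can_conj (hMS.le.trans hS) hχ (hS hs) (hMn hs) hx]
      obtain ⟨χ', hχ', -⟩ := hχ.1.extend_cyclic h.base.mem hQle hQn hinv
        (t := t) (mem_sup_right (mem_sup_right ht)) (sup_le (le_sup_left.trans le_sup_left)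
          (sup_le ((le_sup_left.trans le_sup_right).trans le_sup_left)
            ((hMt t ht htM).2.trans (sup_le_sup_right (le_sup_right.trans le_sup_right) _))))
      exact h.normalize hS hSA hχ'

/-- The extension to `E T`. -/
theorem main (h : Cyc z E A T) : ∃ χ, Good z E (E ⊔ T) χ := by
  classical
  set T₀ := T ⊓ Subgroup.centralizer (A : Set G)
  obtain ⟨χ, hχ⟩ := h.exists_can _ T₀ le_rfl inf_le_left inf_le_right
  have hTT₀ : T ≤ Subgroup.normalizer (T₀ : Set G) :=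
    le_normalizer_inf Subgroup.le_normalizer (le_normalizer_centralizer h.normA)
  -- `T / T₀` is cyclic
  obtain ⟨t, ht, hgen⟩ : ∃ t ∈ T, T ≤ T₀ ⊔ zpowers t := by
    haveI := Fact.mk h.prime
    haveI : IsCyclic A := isCyclic_of_prime_card (rfl : Nat.card A = Nat.card A)
    let φ : T →* MulAut A :=
      { toFun := fun g => conjEquiv (g : G) (conj_mem_iff_of_normalizer (h.normA g.2))
        map_one' := MulEquiv.ext fun a => Subtype.ext (by simp [conjEquiv])
        map_mul' := fun g g' => MulEquiv.ext fun a => Subtype.ext (by simp [conjEquiv, mul_assoc]) }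
    haveI : IsCyclic (MulAut A) := by
      haveI : NeZero (Nat.card A) := ⟨h.prime.ne_zero⟩
      exact isCyclic_of_surjective _ (IsCyclic.mulAutMulEquiv A).symm.surjective
    obtain ⟨w, hw⟩ := (inferInstance : IsCyclic φ.range).exists_generator
    obtain ⟨g, hg⟩ := w.2
    refine ⟨g, g.2, fun x hx => ?_⟩
    obtain ⟨i, hi⟩ := Subgroup.mem_zpowers_iff.mp (hw ⟨φ ⟨x, hx⟩, ⟨⟨x, hx⟩, rfl⟩⟩)
    have hi' : φ ⟨x, hx⟩ = φ (g ^ i) := by
      rw [map_zpow, hg]; exact (congrArg Subtype.val hi).symm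
    have hmem : x * ((g ^ i : T) : G)⁻¹ ∈ T₀ := by
      refine ⟨T.mul_mem hx (inv_mem (g ^ i).2), mem_centralizer_iff.mpr fun a ha => ?_⟩
      have hker : φ (⟨x, hx⟩ * (g ^ i)⁻¹) = 1 := by rw [map_mul, map_inv, hi', mul_inv_cancel]
      have := congrArg (fun f : MulAut A => ((f ⟨a, ha⟩ : A) : G)) hker
      simp only [φ, MonoidHom.coe_mk, OneHom.coe_mk, conjEquiv, MulEquiv.coe_mk, Equiv.coe_fn_mk,
        MulAut.one_apply, Subgroup.coe_mul, Subgroup.coe_inv] at this
      exact eq_mul_inv_iff_mul_eq.mp this.symm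
    rw [show x = x * ((g ^ i : T) : G)⁻¹ * ((g : G) ^ i) by simp]
    exact Subgroup.mul_mem_sup hmem ⟨i, rfl⟩
  have hQle : Q E A T₀ ≤ Q E A T := sup_le_sup_left (sup_le_sup_left inf_le_left A) E
  have hQn : Q E A T ≤ Subgroup.normalizer (Q E A T₀ : Set G) := by
    refine sup_le (le_sup_left.trans Subgroup.le_normalizer) (sup_le
      ((le_sup_left.trans le_sup_right).trans Subgroup.le_normalizer) ?_)
    intro s hs
    refine Subgroup.normalizer_inf_normalizer_le_normalizer_sup _ _ ⟨h.normE (mem_sup_right hs), ?_⟩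
    exact Subgroup.normalizer_inf_normalizer_le_normalizer_sup _ _ ⟨h.normA hs, hTT₀ hs⟩
  have hinv : ∀ g ∈ Q E A T, ∀ x ∈ Q E A T₀, χ (g * x * g⁻¹) = χ x := by
    intro g hg x hx
    obtain ⟨e, he, k, hk, s, hs, rfl⟩ := h.mem_Q le_rfl hg
    have hek : e * k ∈ Q E A T₀ := mul_mem (mem_sup_left he) (mem_sup_right (mem_sup_left hk))
    have hsx : s * x * s⁻¹ ∈ Q E A T₀ :=
      (conj_mem_iff_of_normalizer (hQn (mem_sup_right (mem_sup_right hs))) x).mp hx
    rw [show e * (k * s) * x * (e * (k * s))⁻¹ = (e * k) * (s * x * s⁻¹) * (e * k)⁻¹ by group,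
      hχ.1.class_apply hek hsx, h.can_conj inf_le_left hχ hs (hTT₀ hs) hx]
  obtain ⟨χ', hχ', -⟩ := hχ.1.extend_cyclic h.base.mem hQle hQn hinv
    (t := t) (mem_sup_right (mem_sup_right ht)) (sup_le (le_sup_left.trans le_sup_left)
      (sup_le ((le_sup_left.trans le_sup_right).trans le_sup_left)
        (hgen.trans (sup_le_sup_right (le_sup_right.trans le_sup_right) _))))
  exact ⟨χ', hχ'.mono le_sup_left (sup_le_sup_left le_sup_right E)⟩

end Cyc

end Cfsg.Agent.DadeExt
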