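import Mathlib
import Cfsg.Agent.DadeExt.Cyclic
import Cfsg.Agent.Lib.Hall.MinimalNormal
import Cfsg.Agent.S0205

/-!
# Extension to the `2`-part

If a `2`-group `T` normalises an odd group `K` with `C_E(K) = Z(E)`, the faithful irreducible
character of `E` extends to `E T`.
-/

set_option autoImplicit false
set_option linter.style.haveILetI false
set_option linter.unusedSectionVars false

open Subgroup
open scoped commutatorElement

namespace Cfsg.Agent.DadeExt

open Cfsg.Agent.Characters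

universe u

/-- The induction statement. -/
def Stmt (n : ℕ) : Prop :=
  ∀ (G : Type u) [Group G] [Finite G] (z : G) (E K T : Subgroup G),
    Nat.card E + Nat.card K ≤ n → Base z E → IsPGroup 2 T → Odd (Nat.card K) →
    T ≤ Subgroup.normalizer (K : Set G) → K ⊔ T ≤ Subgroup.normalizer (E : Set G) →
    E ⊓ (K ⊔ T) = ⊥ → (∀ e ∈ E, e ∈ Subgroup.centralizer (K : Set G) → e ∈ zpowers z) →
    ∃ χ, Good z E (E ⊔ T) χ

variable {G : Type u} [Group G] [Finite G] {z : G} {E K T : Subgroup G} {m : ℕ}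

theorem Base.map_conj (h : Base z E) (g : G) : Base z (E.map (MulAut.conj g).toMonoidHom) := by
  have hz : g * z * g⁻¹ = z := by
    rw [Subgroup.mem_center_iff.mp h.central g, mul_inv_cancel_right]
  refine ⟨h.central, ⟨z, h.mem, hz⟩, h.sq, h.ne, h.two.map _, ?_, ?_⟩
  · rintro _ ⟨a, ha, rfl⟩ _ ⟨b, hb, rfl⟩
    rw [← map_commutatorElement, MulEquiv.coe_toMonoidHom, MulAut.conj_apply,
      h.commute_zpowers (h.comm a ha b hb) g, mul_inv_cancel_right]
    exact h.comm a ha b hb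
  · rintro _ ⟨a, ha, rfl⟩ hc
    have h1 : a ∈ zpowers z := h.cent a ha fun b hb => by
      have := hc _ ⟨b, hb, rfl⟩
      rw [← map_mul, ← map_mul] at this
      exact (MulAut.conj g).injective this
    rw [MulEquiv.coe_toMonoidHom, MulAut.conj_apply, h.commute_zpowers h1 g, mul_inv_cancel_right]
    exact h1

/-- A normal subgroup of the acting group centralising `E` can be factored out. -/
theorem of_kernel (hm : K ⊔ T ≤ Subgroup.normalizer (E : Set G)) (ih : Stmt.{u} m)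
    (hcard : Nat.card E + Nat.card K ≤ m + 1) (hE : Base z E) (hT : IsPGroup 2 T)
    (hK : Odd (Nat.card K)) (hTK : T ≤ Subgroup.normalizer (K : Set G))
    (hd : E ⊓ (K ⊔ T) = ⊥) (hfix : ∀ e ∈ E, e ∈ Subgroup.centralizer (K : Set G) → e ∈ zpowers z)
    {N : Subgroup G} (hNK : N ≤ K) (hN : N ≠ ⊥) (hNn : K ⊔ T ≤ Subgroup.normalizer (N : Set G))
    (hEN : E ≤ Subgroup.centralizer (N : Set G)) : ∃ χ, Good z E (E ⊔ T) χ := by
  classical
  set M := E ⊔ (K ⊔ T) with hM
  have hEM : E ≤ M := le_sup_left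
  have hKM : K ≤ M := le_sup_left.trans le_sup_right
  have hTM : T ≤ M := le_sup_right.trans le_sup_right
  have hNM : N ≤ M := hNK.trans hKM
  haveI : (N.subgroupOf M).Normal := Subgroup.normal_subgroupOf_of_le_normalizer
    (sup_le (hEN.trans (centralizer_le_normalizer _)) hNn)
  set f := QuotientGroup.mk' (N.subgroupOf M)
  have hker : ∀ x : M, f x = 1 ↔ (x : G) ∈ N := fun x => by
    simp [f, QuotientGroup.eq_one_iff, Subgroup.mem_subgroupOf]
  have hENbot : ∀ e ∈ E, e ∈ N → e = 1 := fun e he heN => by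
    simpa [hd] using
      (Subgroup.mem_inf.mpr ⟨he, mem_sup_left (hNK heN)⟩ : e ∈ E ⊓ (K ⊔ T))
  have hinj : ∀ e e' : M, (e : G) ∈ E → (e' : G) ∈ E → f e = f e' → e = e' := by
    intro e e' he he' heq
    have h1 : f (e⁻¹ * e') = 1 := by rw [map_mul, map_inv, heq, inv_mul_cancel]
    have h2 := hENbot _ (E.mul_mem (inv_mem he) he') ((hker _).mp h1)
    exact Subtype.ext (inv_mul_eq_one.mp h2)
  have hmap : ∀ {A : Subgroup G} {w : ↥M ⧸ N.subgroupOf M}, w ∈ (A.subgroupOf M).map f →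
      ∃ a : M, (a : G) ∈ A ∧ f a = w := fun hw => hw
  set E' := (E.subgroupOf M).map f
  set K' := (K.subgroupOf M).map f
  set T' := (T.subgroupOf M).map f
  set z' := f ⟨z, hEM hE.mem⟩
  have hzpow : ∀ x : M, (x : G) ∈ zpowers z → f x ∈ zpowers z' := by
    intro x hx
    obtain ⟨i, hi⟩ := Subgroup.mem_zpowers_iff.mp hx
    refine ⟨i, ?_⟩
    change z' ^ i = f x
    rw [← map_zpow]
    exact congrArg f (Subtype.ext (by simpa using hi))
  have hE' : Base z' E' := by
    refine ⟨Subgroup.mem_center_iff.mpr fun w => ?_, ⟨⟨z, hEM hE.mem⟩, hE.mem, rfl⟩, ?_, ?_,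
      ?_, ?_, ?_⟩
    · obtain ⟨w, rfl⟩ := QuotientGroup.mk'_surjective _ w
      rw [← map_mul, ← map_mul]
      exact congrArg f (Subtype.ext (Subgroup.mem_center_iff.mp hE.central w))
    · rw [← map_mul, ← map_one f]
      exact congrArg f (Subtype.ext hE.sq)
    · intro h0
      have := hinj ⟨z, hEM hE.mem⟩ 1 hE.mem (one_mem E) (h0.trans (map_one f).symm)
      exact hE.ne (congrArg Subtype.val this)
    · exact (hE.two.comap_of_injective M.subtype M.subtype_injective).map f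
    · intro a ha b hb
      obtain ⟨a, ha', rfl⟩ := hmap ha
      obtain ⟨b, hb', rfl⟩ := hmap hb
      rw [← map_commutatorElement]
      exact hzpow _ (hE.comm _ ha' _ hb')
    · intro a ha hc
      obtain ⟨a, ha', rfl⟩ := hmap ha
      refine hzpow a (hE.cent a ha' fun y hy => ?_)
      have h1 := hc (f ⟨y, hEM hy⟩) ⟨⟨y, hEM hy⟩, hy, rfl⟩
      rw [← map_mul, ← map_mul] at h1
      exact congrArg Subtype.val (hinj (a * ⟨y, hEM hy⟩) (⟨y, hEM hy⟩ * a)
        (mul_mem ha' hy) (mul_mem hy ha') h1)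
  have hT' : IsPGroup 2 T' := (hT.comap_of_injective M.subtype M.subtype_injective).map f
  have hcardK : Nat.card K' < Nat.card K := by
    have h1 := (f.comp (Subgroup.inclusion hKM)).ker.card_mul_index
    rw [Subgroup.index_ker] at h1
    have hr : (f.comp (Subgroup.inclusion hKM)).range = K' := by
      rw [MonoidHom.range_comp, Subgroup.inclusion_range]
    rw [hr] at h1
    have h2 : 1 < Nat.card (f.comp (Subgroup.inclusion hKM)).ker := by
      obtain ⟨x, hxN, hx1⟩ := (Subgroup.ne_bot_iff_exists_ne_one.mp hN) |>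
        fun ⟨x, hx⟩ => (⟨x.1, x.2, fun h => hx (Subtype.ext h)⟩ : ∃ y, y ∈ N ∧ y ≠ 1)
      refine Finite.one_lt_card_iff_nontrivial.mpr ⟨⟨⟨x, hNK hxN⟩, (hker _).mpr hxN⟩, 1, fun h =>
        hx1 (congrArg (fun y => ((y.1 : K) : G)) h)⟩
    have h3 : 0 < Nat.card K' := Nat.card_pos
    nlinarith
  have hK' : Odd (Nat.card K') := by
    refine hK.of_dvd_nat ?_
    exact (Subgroup.card_map_dvd _ _).trans
      (by rw [Nat.card_congr (Subgroup.subgroupOfEquivOfLe hKM).toEquiv])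
  have hcardE : Nat.card E' ≤ Nat.card E := Nat.le_of_dvd Nat.card_pos
    ((Subgroup.card_map_dvd _ _).trans
      (by rw [Nat.card_congr (Subgroup.subgroupOfEquivOfLe hEM).toEquiv]))
  have hnorm : ∀ {A B : Subgroup G}, A ≤ Subgroup.normalizer (B : Set G) →
      (A.subgroupOf M).map f ≤
        Subgroup.normalizer (((B.subgroupOf M).map f : Subgroup (↥M ⧸ N.subgroupOf M)) :
          Set (↥M ⧸ N.subgroupOf M)) := by
    intro A B hAB
    refine Subgroup.le_normalizer_iff.mpr ?_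
    rintro _ ⟨a, ha, rfl⟩ _ ⟨b, hb, rfl⟩
    exact ⟨a * b * a⁻¹, (Subgroup.le_normalizer_iff.mp hAB) _ ha _ hb, by simp⟩
  have hsup : K' ⊔ T' = ((K ⊔ T).subgroupOf M).map f := by
    rw [Subgroup.subgroupOf_sup hKM hTM, Subgroup.map_sup]
  obtain ⟨χ', hχ'⟩ := ih _ z' E' K' T' (by omega) hE' hT' hK' (hnorm hTK)
    (hsup ▸ hnorm hm) (by
      rw [Subgroup.eq_bot_iff_forall, hsup]
      rintro w ⟨hw1, hw2⟩
      obtain ⟨e, he, rfl⟩ := hmap hw1
      obtain ⟨h, hh, heq⟩ := hmap hw2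
      have h1 : ((h⁻¹ * e : M) : G) ∈ N :=
        (hker _).mp (by rw [map_mul, map_inv, heq, inv_mul_cancel])
      have he' : (e : G) = 1 := by
        have h2 : (e : G) ∈ K ⊔ T := by
          have := mul_mem hh (mem_sup_left (hNK h1) : ((h⁻¹ * e : M) : G) ∈ K ⊔ T)
          simpa using this
        simpa [hd] using (Subgroup.mem_inf.mpr ⟨he, h2⟩ : (e : G) ∈ E ⊓ (K ⊔ T))
      rw [show e = 1 from Subtype.ext he', map_one])
    (by
      intro w hw hc
      obtain ⟨e, he, rfl⟩ := hmap hw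
      refine hzpow e (hfix _ he (mem_centralizer_iff.mpr fun k hk => ?_))
      have h1 := mem_centralizer_iff.mp hc (f ⟨k, hKM hk⟩) ⟨⟨k, hKM hk⟩, hk, rfl⟩
      have hke : k * (e : G) * k⁻¹ ∈ E :=
        (Subgroup.le_normalizer_iff.mp hm) k (mem_sup_left hk) _ he
      have h2 := hinj (⟨k, hKM hk⟩ * e * ⟨k, hKM hk⟩⁻¹) e hke he
        (by rw [map_mul, map_mul, map_inv, h1, mul_inv_cancel_right])
      exact eq_mul_inv_iff_mul_eq.mp (congrArg Subtype.val h2).symm |>.symm)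
  -- pull back
  have hETM : E ⊔ T ≤ M := sup_le hEM hTM
  let χ : G → ℂ := ext0 M fun x => χ' (f x)
  have hmem' : ∀ x : ↥(E ⊔ T), f (Subgroup.inclusion hETM x) ∈ E' ⊔ T' := fun x => by
    have h0 : E' ⊔ T' = ((E ⊔ T).subgroupOf M).map f := by
      rw [Subgroup.subgroupOf_sup hEM hTM, Subgroup.map_sup]
    rw [h0]
    exact ⟨_, x.2, rfl⟩
  let j : ↥(E ⊔ T) →* ↥(E' ⊔ T') := (f.comp (Subgroup.inclusion hETM)).codRestrict _ hmem'
  let g : ↥E →* ↥E' := (f.comp (Subgroup.inclusion hEM)).codRestrict _ fun x => ⟨_, x.2, rfl⟩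
  have hg : Function.Bijective g := ⟨fun a b hab => Subtype.ext (by
      exact congrArg (fun y : M => (y : G)) (hinj _ _ a.2 b.2 (congrArg Subtype.val hab))),
    fun ⟨w, hw⟩ => by
      obtain ⟨e, he, rfl⟩ := hmap hw
      exact ⟨⟨e, he⟩, rfl⟩⟩
  refine ⟨χ, le_sup_left, ?_, ?_, ?_⟩
  · have : res (E ⊔ T) χ = res (E' ⊔ T') χ' ∘ j := funext fun x => by
      simp only [res, χ, ext0_apply _ _ (hETM x.2), Function.comp_apply]; rfl
    rw [this]
    exact isCharacter_comp j hχ'.char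
  · have : res E χ = res E' χ' ∘ (MulEquiv.ofBijective g hg) := funext fun x => by
      simp only [res, χ, ext0_apply _ _ (hEM x.2), Function.comp_apply]; rfl
    rw [this]
    exact (isIrrCharacter_comp_mulEquiv _).mpr hχ'.irr
  · simp only [χ, ext0_apply _ _ (hEM hE.mem), ext0_apply _ _ (one_mem M)]
    rw [show (⟨1, one_mem M⟩ : M) = 1 from rfl, map_one]
    exact hχ'.neg

/-- Splitting along a central factor invariant under `K` and `T`. -/
theorem of_split (hm : K ⊔ T ≤ Subgroup.normalizer (E : Set G)) (ih : Stmt.{u} m)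
    (hcard : Nat.card E + Nat.card K ≤ m + 1) (hE : Base z E) (hT : IsPGroup 2 T)
    (hK : Odd (Nat.card K)) (hTK : T ≤ Subgroup.normalizer (K : Set G))
    (hd : E ⊓ (K ⊔ T) = ⊥) (hfix : ∀ e ∈ E, e ∈ Subgroup.centralizer (K : Set G) → e ∈ zpowers z)
    {X : Subgroup G} (hX : Base z X) (hXE : X ≤ E)
    (hXn : K ⊔ T ≤ Subgroup.normalizer (X : Set G)) (hXZ : ¬ X ≤ zpowers z) (hne : X ≠ E) :
    ∃ χ, Good z E (E ⊔ T) χ := by
  obtain ⟨hsup, hY⟩ := hE.factor hX hXE
  set Y := E ⊓ Subgroup.centralizer (X : Set G)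
  have hYn : K ⊔ T ≤ Subgroup.normalizer (Y : Set G) :=
    le_normalizer_inf hm (le_normalizer_centralizer hXn)
  have hlt : ∀ {A : Subgroup G}, A ≤ E → A ≠ E → Nat.card A + Nat.card K ≤ m := by
    intro A hA hne'
    have : Nat.card A < Nat.card E := lt_of_le_of_ne (Subgroup.card_le_of_le hA)
      fun he => hne' (Subgroup.eq_of_le_of_card_ge hA he.ge)
    omega
  have hYne : Y ≠ E := fun he => hXZ fun x hx => hX.cent x hx fun y hy => by
    have : y ∈ Y := he.symm ▸ hXE hy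
    exact mem_centralizer_iff.mp this.2 x hx
  obtain ⟨ψ₁, h₁⟩ := ih G z X K T (hlt hXE hne) hX hT hK hTK hXn
    (le_bot_iff.mp ((inf_le_inf_right _ hXE).trans hd.le)) fun e he => hfix e (hXE he)
  obtain ⟨ψ₂, h₂⟩ := ih G z Y K T (hlt inf_le_left hYne) hY hT hK hTK hYn
    (le_bot_iff.mp ((inf_le_inf_right _ inf_le_left).trans hd.le)) fun e he => hfix e he.1
  obtain ⟨χ, hχ, -⟩ := Good.combine hE hX.mem hsup
    (fun w hw => hX.cent w hw.1 fun y hy => (mem_centralizer_iff.mp hw.2.2 y hy).symm)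
    (Subgroup.le_centralizer_iff.mp inf_le_right) (le_sup_right.trans hXn)
    (le_sup_right.trans hYn) (le_bot_iff.mp ((inf_le_inf_left _ le_sup_right).trans hd.le)) h₁ h₂
  exact ⟨χ, hχ⟩

/-- In a cyclic group two subgroups of equal order coincide. -/
theorem map_conj_eq_of_cyclic [hc : IsCyclic K] {A : Subgroup G} (hA : A ≤ K) {t : G}
    (ht : t ∈ Subgroup.normalizer (K : Set G)) : ∀ a ∈ A, t * a * t⁻¹ ∈ A := by
  intro a ha
  have htK : ∀ x ∈ K, t * x * t⁻¹ ∈ K := fun x hx => (conj_mem_iff_of_normalizer ht x).mp hx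
  obtain ⟨g, hg⟩ := hc.exists_generator
  obtain ⟨k, hk⟩ := Subgroup.mem_zpowers_iff.mp (hg ⟨t * g * t⁻¹, htK g g.2⟩)
  obtain ⟨i, hi⟩ := Subgroup.mem_zpowers_iff.mp (hg ⟨a, hA ha⟩)
  have hk' : (g : G) ^ k = t * g * t⁻¹ := by simpa using congrArg Subtype.val hk
  have hi' : (g : G) ^ i = a := by simpa using congrArg Subtype.val hi
  rw [← hi', ← conj_zpow, ← hk', ← zpow_mul, mul_comm, zpow_mul, hi']
  exact zpow_mem ha k

theorem main (n : ℕ) : Stmt.{u} n := by
  induction n with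
  | zero =>
    intro G _ _ z E K T hcard
    have : 0 < Nat.card E := Nat.card_pos
    omega
  | succ m ih =>
  intro G _ _ z E K T hcard hE hT hK hTK hm hd hfix
  classical
  have hdT : E ⊓ T = ⊥ := le_bot_iff.mp ((inf_le_inf_left _ le_sup_right).trans hd.le)
  by_cases hEZ : E ≤ zpowers z
  · exact Good.exists_trivial hE hEZ hdT
  have hEeq : ∀ e ∈ E, (e ∈ Subgroup.centralizer (⊥ : Subgroup G) : Prop) := fun e _ =>
    mem_centralizer_iff.mpr fun x hx => by
      rw [Subgroup.mem_bot.mp hx, one_mul, mul_one]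
  have hKne : K ≠ ⊥ := fun h => hEZ fun e he => hfix e he (h ▸ hEeq e he)
  -- the splitting by a subgroup of `K`
  have reduce : ∀ N : Subgroup G, N ≤ K → N ≠ ⊥ → K ⊔ T ≤ Subgroup.normalizer (N : Set G) →
      (∃ e ∈ E, e ∈ Subgroup.centralizer (N : Set G) ∧ e ∉ zpowers z) →
      ∃ χ, Good z E (E ⊔ T) χ := by
    intro N hNK hN hNn ⟨e, he, hec, hez⟩
    by_cases hEN : E ≤ Subgroup.centralizer (N : Set G)
    · exact of_kernel hm ih hcard hE hT hK hTK hd hfix hNK hN hNn hEN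
    · refine of_split hm ih hcard hE hT hK hTK hd hfix
        (X := E ⊓ Subgroup.centralizer (N : Set G))
        (hE.fixed (hNK.trans (le_sup_left.trans hm)) (hK.of_dvd_nat (Subgroup.card_dvd_of_le hNK)))
        inf_le_left (le_normalizer_inf hm (le_normalizer_centralizer hNn))
        (fun h => hez (h ⟨he, hec⟩)) fun h => hEN fun x hx => ?_
      exact ((h.symm ▸ hx : x ∈ E ⊓ Subgroup.centralizer (N : Set G))).2
  -- a minimal normal subgroup of `K T` inside `K`
  haveI hKn : (K.subgroupOf (K ⊔ T)).Normal := Subgroup.normal_subgroupOf_of_le_normalizer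
    (sup_le Subgroup.le_normalizer hTK)
  obtain ⟨R₀, hR₀n, hR₀K, hR₀, hmin⟩ := Hall.exists_minimal_normal (K.subgroupOf (K ⊔ T))
    (fun h => hKne (by
      rw [Subgroup.subgroupOf_eq_bot, disjoint_iff, inf_of_le_left le_sup_left] at h; exact h))
  haveI := hR₀n
  haveI : Group.IsSolvable R₀ := by
    haveI : Group.IsSolvable K := Cfsg.Agent.S0205.result hK
    haveI : Group.IsSolvable ↥(K.subgroupOf (K ⊔ T)) := Group.isSolvable_of_isSolvable_injective
      (f := (Subgroup.subgroupOfEquivOfLe (le_sup_left : K ≤ K ⊔ T)).toMonoidHom)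
      (MulEquiv.injective _)
    exact Group.isSolvable_of_isSolvable_injective (f := Subgroup.inclusion hR₀K)
      (Subgroup.inclusion_injective _)
  haveI hR₀c := Hall.minimal_normal_isMulCommutative hmin
  set R := R₀.map (K ⊔ T).subtype
  have hRK : R ≤ K := by
    rintro _ ⟨x, hx, rfl⟩
    exact Subgroup.mem_subgroupOf.mp (hR₀K hx)
  have hR : R ≠ ⊥ := fun h =>
    hR₀ ((Subgroup.map_eq_bot_iff_of_injective _ (Subgroup.subtype_injective _)).mp h)
  have hRn : K ⊔ T ≤ Subgroup.normalizer (R : Set G) := by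
    refine Subgroup.le_normalizer_iff.mpr ?_
    rintro g hg _ ⟨x, hx, rfl⟩
    exact ⟨⟨g, hg⟩ * x * ⟨g, hg⟩⁻¹, hR₀n.conj_mem x hx _, rfl⟩
  have hRc : ∀ a ∈ R, ∀ b ∈ R, a * b = b * a := by
    rintro _ ⟨x, hx, rfl⟩ _ ⟨y, hy, rfl⟩
    rw [← map_mul, ← map_mul]
    exact congrArg _ (congrArg Subtype.val (hR₀c.is_comm.comm (⟨x, hx⟩ : R₀) ⟨y, hy⟩))
  by_cases hRfix : ∃ e ∈ E, e ∈ Subgroup.centralizer (R : Set G) ∧ e ∉ zpowers z
  · exact reduce R hRK hR hRn hRfix
  push Not at hRfix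
  by_cases hRK' : R ≠ K
  · have hlt : Nat.card R < Nat.card K := lt_of_le_of_ne (Subgroup.card_le_of_le hRK)
      fun he => hRK' (Subgroup.eq_of_le_of_card_ge hRK he.ge)
    exact ih G z E R T (by omega) hE hT (hK.of_dvd_nat (Subgroup.card_dvd_of_le hRK))
      (le_sup_right.trans hRn) ((sup_le_sup_right hRK T).trans hm)
      (le_bot_iff.mp ((inf_le_inf_left _ (sup_le_sup_right hRK T)).trans hd.le)) hRfix
  push Not at hRK'
  have hKc : ∀ a ∈ K, ∀ b ∈ K, a * b = b * a := fun a ha b hb =>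
    hRc a (hRK'.symm ▸ ha) b (hRK'.symm ▸ hb)
  have hKab : ∀ A : Subgroup G, A ≤ K → K ≤ Subgroup.centralizer (A : Set G) := fun A hA k hk =>
    mem_centralizer_iff.mpr fun a ha => hKc a (hA ha) k hk
  -- a maximal subgroup with non-central fixed points
  obtain ⟨B, hB, hBmax⟩ := Set.Finite.exists_maximal (Set.toFinite
      {B : Subgroup G | B ≤ K ∧ ∃ e ∈ E, e ∈ Subgroup.centralizer (B : Set G) ∧ e ∉ zpowers z})
    ⟨⊥, bot_le, by
      obtain ⟨e, he, hez⟩ := SetLike.not_le_iff_exists.mp hEZ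
      exact ⟨e, he, hEeq e he, hez⟩⟩
  obtain ⟨hBK, e₀, he₀, he₀c, he₀z⟩ := hB
  have hmax : ∀ A, B < A → A ≤ K → ∀ e ∈ E, e ∈ Subgroup.centralizer (A : Set G) →
      e ∈ zpowers z := by
    intro A hBA hAK e he hec
    by_contra hez
    exact hBA.not_ge (hBmax ⟨hAK, e, he, hec, hez⟩ hBA.le)
  by_cases hBT : T ≤ Subgroup.normalizer (B : Set G)
  · by_cases hB1 : B ≠ ⊥
    · exact reduce B hBK hB1 (sup_le ((hKab B hBK).trans (centralizer_le_normalizer _)) hBT)
        ⟨e₀, he₀, he₀c, he₀z⟩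
    push Not at hB1
    subst hB1
    haveI : IsMulCommutative K := ⟨⟨fun a b => Subtype.ext (hKc a a.2 b b.2)⟩⟩
    have hcyc : IsCyclic K := by
      by_contra hnc
      refine hEZ ?_
      rw [← Coprime.fixedGen_eq hnc (le_sup_left.trans hm) (hE.coprime_card hK)]
      refine iSup₂_le fun a ha x hx => hmax (zpowers a) ?_ (zpowers_le_of_mem ha.1) x hx.1 ?_
      · exact bot_lt_iff_ne_bot.mpr (zpowers_ne_bot.mpr ha.2)
      · refine mem_centralizer_iff.mpr fun w hw => ?_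
        obtain ⟨i, rfl⟩ := Subgroup.mem_zpowers_iff.mp hw
        exact (show Commute a x from mem_centralizer_iff.mp hx.2 a rfl).zpow_left i
    obtain ⟨r, hr, hrd⟩ := Nat.exists_prime_and_dvd
      (fun h => hKne (Subgroup.card_eq_one.mp h) : Nat.card K ≠ 1)
    haveI := Fact.mk hr
    obtain ⟨a, ha⟩ := exists_prime_orderOf_dvd_card' (G := K) r hrd
    set A := zpowers (a : G)
    have hA : A ≤ K := zpowers_le_of_mem a.2
    have hAcard : Nat.card A = r := by rw [Nat.card_zpowers, Subgroup.orderOf_coe, ha]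
    have hcyc' : Cyc z E A T :=
      { base := hE
        prime := hAcard ▸ hr
        odd := hK.of_dvd_nat (Subgroup.card_dvd_of_le hA)
        normE := (sup_le_sup_right hA T).trans hm
        normA := Subgroup.le_normalizer_iff.mpr fun t ht =>
          map_conj_eq_of_cyclic (hc := hcyc) hA (hTK ht)
        two := hT
        fixed := hmax A (bot_lt_iff_ne_bot.mpr fun h => hr.ne_one
          (hAcard ▸ Subgroup.card_eq_one.mpr h)) hA
        disj := le_bot_iff.mp ((inf_le_inf_left _ (sup_le_sup_right hA T)).trans hd.le) }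
    exact hcyc'.main
  -- `T` moves `B`
  have hlt : T ⊓ Subgroup.normalizer (B : Set G) < T :=
    lt_of_le_of_ne inf_le_left fun h => hBT (h ▸ inf_le_right)
  obtain ⟨T₁, hT₁B, hT₁T, hT₁n, hT₁s⟩ := exists_index_two hT hlt
  obtain ⟨s, hs, hs1⟩ := SetLike.exists_of_lt hT₁T
  obtain ⟨hss, hgen⟩ := hT₁s s hs hs1
  set f : Subgroup G → Subgroup G := fun A => E ⊓ Subgroup.centralizer (A : Set G) with hf
  haveI := Fintype.ofFinite (Subgroup G)
  set orb : Finset (Subgroup G) :=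
    Finset.univ.filter fun A => ∃ t ∈ T₁, A = B.map (MulAut.conj t).toMonoidHom with horb
  have horbK : ∀ t ∈ T, B.map (MulAut.conj t).toMonoidHom ≤ K := by
    rintro t ht _ ⟨b, hb, rfl⟩
    exact (Subgroup.le_normalizer_iff.mp hTK) t ht b (hBK hb)
  have hconj : ∀ t ∈ T, ∀ A : Subgroup G, (f A).map (MulAut.conj t).toMonoidHom ≤
      f (A.map (MulAut.conj t).toMonoidHom) := by
    rintro t ht A _ ⟨x, hx, rfl⟩
    refine ⟨(Subgroup.le_normalizer_iff.mp hm) t (mem_sup_right ht) x hx.1,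
      mem_centralizer_iff.mpr ?_⟩
    rintro _ ⟨a, ha, rfl⟩
    rw [← map_mul, ← map_mul, mem_centralizer_iff.mp hx.2 a ha]
  have hfB : ∀ t ∈ T, Base z (f (B.map (MulAut.conj t).toMonoidHom)) := fun t ht =>
    hE.fixed ((horbK t ht).trans (le_sup_left.trans hm))
      (hK.of_dvd_nat (Subgroup.card_dvd_of_le (horbK t ht)))
  have hfcomm : ∀ t ∈ T, ∀ t' ∈ T, B.map (MulAut.conj t).toMonoidHom ≠
      B.map (MulAut.conj t').toMonoidHom → f (B.map (MulAut.conj t).toMonoidHom) ≤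
        Subgroup.centralizer (f (B.map (MulAut.conj t').toMonoidHom) : Set G) := by
    intro t ht t' ht' hne
    refine hE.fixed_commute ((horbK t ht).trans (le_sup_left.trans hm))
      ((horbK t' ht').trans (le_sup_left.trans hm))
      (hK.of_dvd_nat (Subgroup.card_dvd_of_le (horbK t' ht')))
      ((horbK t' ht').trans ((hKab _ (horbK t ht)).trans (centralizer_le_normalizer _)))
      fun e he he1 he2 => ?_
    -- pull back by `t`
    have hcard' : Nat.card ↥(B.map (MulAut.conj t).toMonoidHom) =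
        Nat.card ↥(B.map (MulAut.conj t').toMonoidHom) := by
      rw [← Nat.card_congr (Subgroup.equivMapOfInjective B _ (MulAut.conj t).injective).toEquiv,
        ← Nat.card_congr (Subgroup.equivMapOfInjective B _ (MulAut.conj t').injective).toEquiv]
    set B₁ := B.map (MulAut.conj t).toMonoidHom
    set B₂ := B.map (MulAut.conj t').toMonoidHom
    have hnot : ¬ B₂ ≤ B₁ := fun h => hne (Subgroup.eq_of_le_of_card_ge h hcard'.le).symm
    set A := (B₁ ⊔ B₂).map (MulAut.conj t⁻¹).toMonoidHom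
    have hAK : A ≤ K := by
      rintro _ ⟨b, hb, rfl⟩
      exact (Subgroup.le_normalizer_iff.mp hTK) t⁻¹ (inv_mem ht) b
        (sup_le (horbK t ht) (horbK t' ht') hb)
    have hBA : B < A := by
      refine lt_of_le_of_ne (fun b hb => ?_) fun he' => hnot ?_
      · exact ⟨t * b * t⁻¹, mem_sup_left ⟨b, hb, rfl⟩, by simp [mul_assoc]⟩
      · intro y hy
        have : t⁻¹ * y * t ∈ B := he' ▸ ⟨y, mem_sup_right hy, by simp⟩
        exact ⟨_, this, by simp [mul_assoc]⟩
    have hez := hmax A hBA hAK (t⁻¹ * e * t)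
      (by simpa using (Subgroup.le_normalizer_iff.mp hm) t⁻¹ (mem_sup_right (inv_mem ht)) e he)
      (mem_centralizer_iff.mpr (by
        rintro _ ⟨b, hb, rfl⟩
        have hle : B₁ ⊔ B₂ ≤ Subgroup.centralizer ({e} : Set G) :=
          sup_le (fun b' hb' => mem_centralizer_iff.mpr fun w hw => by
              rw [Set.mem_singleton_iff.mp hw]; exact (mem_centralizer_iff.mp he1 b' hb').symm)
            fun b' hb' => mem_centralizer_iff.mpr fun w hw => by
              rw [Set.mem_singleton_iff.mp hw]; exact (mem_centralizer_iff.mp he2 b' hb').symm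
        have h1 : e * b = b * e := mem_centralizer_iff.mp (hle hb) e rfl
        simp only [MulEquiv.coe_toMonoidHom, MulAut.conj_apply, inv_inv]
        calc t⁻¹ * b * t * (t⁻¹ * e * t) = t⁻¹ * (b * e) * t := by group
          _ = t⁻¹ * (e * b) * t := by rw [h1]
          _ = t⁻¹ * e * t * (t⁻¹ * b * t) := by group))
    have h2 := hE.commute_zpowers hez t
    rw [show e = t * (t⁻¹ * e * t) * t⁻¹ by group, h2, mul_inv_cancel_right]
    exact hez
  set E₁ := orb.sup f with hE₁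
  have hmemorb : ∀ {A}, A ∈ orb ↔ ∃ t ∈ T₁, A = B.map (MulAut.conj t).toMonoidHom := by
    exact fun {A} => ⟨fun h => (Finset.mem_filter.mp h).2,
      fun h => Finset.mem_filter.mpr ⟨Finset.mem_univ _, h⟩⟩
  have hBorb : B ∈ orb := hmemorb.mpr ⟨1, one_mem _, by ext; simp⟩
  obtain ⟨hE₁B, hE₁E⟩ := hE.finset_sup f ⟨B, hBorb⟩
    (fun A hA => by
      obtain ⟨t, ht, rfl⟩ := hmemorb.mp hA
      exact ⟨hfB t (hT₁T.le ht), inf_le_left⟩)
    fun A hA A' hA' hne => by
      obtain ⟨t, ht, rfl⟩ := hmemorb.mp hA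
      obtain ⟨t', ht', rfl⟩ := hmemorb.mp hA'
      exact hfcomm t (hT₁T.le ht) t' (hT₁T.le ht') hne
  set E₂ := E₁.map (MulAut.conj s).toMonoidHom with hE₂
  have hE₂E : E₂ ≤ E := by
    rintro _ ⟨x, hx, rfl⟩
    exact (Subgroup.le_normalizer_iff.mp hm) s (mem_sup_right hs) x (hE₁E hx)
  have hE₂B : Base z E₂ := hE₁B.map_conj s
  have hc12 : E₁ ≤ Subgroup.centralizer (E₂ : Set G) := by
    refine Finset.sup_le fun A hA => Subgroup.le_centralizer_iff.mp ?_
    rw [hE₂, hE₁, Subgroup.map_le_iff_le_comap]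
    refine Finset.sup_le fun A' hA' => ?_
    rw [← Subgroup.map_le_iff_le_comap]
    refine (hconj s hs A').trans ?_
    obtain ⟨t, ht, rfl⟩ := hmemorb.mp hA
    obtain ⟨t', ht', rfl⟩ := hmemorb.mp hA'
    have hst : s * t' ∈ T := T.mul_mem hs (hT₁T.le ht')
    have he : (B.map (MulAut.conj t').toMonoidHom).map (MulAut.conj s).toMonoidHom =
        B.map (MulAut.conj (s * t')).toMonoidHom := by
      rw [Subgroup.map_map]
      congr 1
      ext x; simp [mul_assoc]
    rw [he]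
    refine hfcomm _ hst _ (hT₁T.le ht) fun heq => hs1 ?_
    have hN : t⁻¹ * (s * t') ∈ Subgroup.normalizer (B : Set G) := by
      rw [Subgroup.mem_normalizer_iff]
      intro x
      have h1 : ∀ y, (s * t') * y * (s * t')⁻¹ ∈ B.map (MulAut.conj t).toMonoidHom ↔ y ∈ B :=
        fun y => by
          rw [← heq]
          exact ⟨fun ⟨y', hy', h'⟩ => by
            have := (MulAut.conj (s * t')).injective (h'.trans (MulAut.conj_apply _ y).symm)
            rwa [← this], fun hy => ⟨y, hy, rfl⟩⟩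
      rw [← h1 x, Subgroup.mem_map]
      constructor
      · rintro ⟨b, hb, h'⟩
        simp only [MulEquiv.coe_toMonoidHom, MulAut.conj_apply] at h'
        rw [show t⁻¹ * (s * t') * x * (t⁻¹ * (s * t'))⁻¹ =
          t⁻¹ * ((s * t') * x * (s * t')⁻¹) * t by group, ← h']
        simpa [mul_assoc] using hb
      · intro h'
        exact ⟨_, h', by simp [mul_assoc]⟩
    have h3 := mul_mem (mul_mem ht (hT₁B ⟨T.mul_mem (inv_mem (hT₁T.le ht)) hst, hN⟩))
      (inv_mem ht')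
    simpa [mul_assoc] using h3
  have hT₁E₁ : T₁ ≤ Subgroup.normalizer (E₁ : Set G) := by
    refine Subgroup.le_normalizer_iff.mpr fun t ht x hx => ?_
    have hle : E₁.map (MulAut.conj t).toMonoidHom ≤ E₁ := by
      rw [hE₁, Subgroup.map_le_iff_le_comap]
      refine Finset.sup_le fun A hA => ?_
      rw [← Subgroup.map_le_iff_le_comap]
      refine (hconj t (hT₁T.le ht) A).trans (Finset.le_sup (f := f) ?_)
      obtain ⟨t', ht', rfl⟩ := hmemorb.mp hA
      refine hmemorb.mpr ⟨t * t', mul_mem ht ht', ?_⟩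
      rw [Subgroup.map_map]
      congr 1
      ext x; simp [mul_assoc]
    exact hle ⟨x, hx, rfl⟩
  have hKE₁ : K ≤ Subgroup.normalizer (E₁ : Set G) := by
    refine Subgroup.le_normalizer_iff.mpr fun k hk x hx => ?_
    have hle : E₁.map (MulAut.conj k).toMonoidHom ≤ E₁ := by
      rw [hE₁, Subgroup.map_le_iff_le_comap]
      refine Finset.sup_le fun A hA => ?_
      rw [← Subgroup.map_le_iff_le_comap]
      obtain ⟨t', ht', rfl⟩ := hmemorb.mp hA
      refine le_trans ?_ (Finset.le_sup (f := f) hA)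
      rintro _ ⟨y, hy, rfl⟩
      exact (Subgroup.le_normalizer_iff.mp (le_normalizer_inf (le_sup_left.trans hm)
        (le_normalizer_centralizer ((hKab _ (horbK t' (hT₁T.le ht'))).trans
          (centralizer_le_normalizer _))))) k hk y hy
    exact hle ⟨x, hx, rfl⟩
  have hss' : ∀ x ∈ E₁, s * (s * x * s⁻¹) * s⁻¹ ∈ E₁ := fun x hx => by
    have := (Subgroup.le_normalizer_iff.mp hT₁E₁) (s * s) hss x hx
    simpa [mul_assoc] using this
  have hE₂mem : ∀ x, x ∈ E₂ ↔ s⁻¹ * x * s ∈ E₁ := fun x => by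
    constructor
    · rintro ⟨y, hy, rfl⟩; simpa [mul_assoc] using hy
    · intro h; exact ⟨_, h, by simp [mul_assoc]⟩
  have hT₁E₂ : T₁ ≤ Subgroup.normalizer (E₂ : Set G) := by
    refine Subgroup.le_normalizer_iff.mpr fun t ht x hx => ?_
    rw [hE₂mem] at hx ⊢
    have ht' : s⁻¹ * t * s ∈ T₁ := by
      simpa using (conj_mem_iff_of_normalizer (hT₁n (inv_mem hs)) t).mp ht
    have := (Subgroup.le_normalizer_iff.mp hT₁E₁) _ ht' _ hx
    simpa [mul_assoc] using this
  have hKE₂ : K ≤ Subgroup.normalizer (E₂ : Set G) := by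
    refine Subgroup.le_normalizer_iff.mpr fun k hk x hx => ?_
    rw [hE₂mem] at hx ⊢
    have hk' : s⁻¹ * k * s ∈ K := by
      simpa using (conj_mem_iff_of_normalizer (hTK (inv_mem hs)) k).mp hk
    have := (Subgroup.le_normalizer_iff.mp hKE₁) _ hk' _ hx
    simpa [mul_assoc] using this
  have hUB := hE.sup hE₁B hE₂B hE₁E hE₂E hc12
  set U := E₁ ⊔ E₂
  have hUn : K ⊔ T ≤ Subgroup.normalizer (U : Set G) := by
    refine sup_le (le_trans (le_inf hKE₁ hKE₂)
      (Subgroup.normalizer_inf_normalizer_le_normalizer_sup _ _)) (hgen.trans (sup_le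
        (le_trans (le_inf hT₁E₁ hT₁E₂) (Subgroup.normalizer_inf_normalizer_le_normalizer_sup _ _))
        (zpowers_le_of_mem ?_)))
    have hfwd : U.map (MulAut.conj s).toMonoidHom = U := by
      refine Subgroup.eq_of_le_of_card_ge ?_ ?_
      · rw [Subgroup.map_sup]
        refine sup_le le_sup_right (le_trans ?_ le_sup_left)
        rintro _ ⟨_, ⟨x, hx, rfl⟩, rfl⟩
        simpa using hss' x hx
      · rw [← Nat.card_congr (Subgroup.equivMapOfInjective U _ (MulAut.conj s).injective).toEquiv]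
    refine Subgroup.mem_normalizer_iff.mpr fun x => ⟨fun hx => hfwd ▸ ⟨x, hx, rfl⟩, fun hx => ?_⟩
    rw [← hfwd] at hx
    obtain ⟨y, hy, hyx⟩ := hx
    rwa [← (MulAut.conj s).injective hyx]
  have hfBE : ¬ E₁ ≤ zpowers z := fun h => he₀z (h (Finset.le_sup (f := f) hBorb ⟨he₀, he₀c⟩))
  by_cases hU : U ≠ E
  · exact of_split hm ih hcard hE hT hK hTK hd hfix hUB (sup_le hE₁E hE₂E) hUn
      (fun h => hfBE (le_sup_left.trans h)) hU
  push Not at hU
  have hE₁ne : E₁ ≠ E := fun h => by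
    have h2 : E₂ ≤ zpowers z := fun x hx => hE.cent x (hE₂E hx) fun y hy =>
      (mem_centralizer_iff.mp (hc12 (h.symm ▸ hy)) x hx)
    refine hfBE fun x hx => ?_
    have h3 := h2 ⟨x, hx, rfl⟩
    have h4 := hE.commute_zpowers h3 s⁻¹
    have h5 : x = s⁻¹ * (s * x * s⁻¹) * s := by group
    simp only [MulEquiv.coe_toMonoidHom, MulAut.conj_apply] at h3 h4
    rw [h5, h4, inv_mul_cancel_right]
    exact h3
  have hltE : Nat.card E₁ < Nat.card E := lt_of_le_of_ne (Subgroup.card_le_of_le hE₁E)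
    fun he => hE₁ne (Subgroup.eq_of_le_of_card_ge hE₁E he.ge)
  obtain ⟨ψ₁, h₁⟩ := ih G z E₁ K T₁ (by omega) hE₁B (hT.to_le hT₁T.le) hK
    (hT₁T.le.trans hTK) (sup_le hKE₁ hT₁E₁)
    (le_bot_iff.mp ((inf_le_inf hE₁E (sup_le_sup_left hT₁T.le K)).trans hd.le))
    fun e he => hfix e (hE₁E he)
  have hT₁conj : ∀ x, x ∈ T₁ ↔ s⁻¹ * x * s⁻¹⁻¹ ∈ T₁ :=
    conj_mem_iff_of_normalizer (hT₁n (inv_mem hs))
  have hconjsup : ∀ x, x ∈ E₂ ⊔ T₁ ↔ s⁻¹ * x * s⁻¹⁻¹ ∈ E₁ ⊔ T₁ := fun x => by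
    rw [inv_inv]
    constructor
    · intro hx
      obtain ⟨a, ha, b, hb, rfl⟩ := (Coprime.mem_sup_of_le_normalizer hT₁E₂).mp hx
      rw [show s⁻¹ * (a * b) * s = (s⁻¹ * a * s) * (s⁻¹ * b * s) by group]
      exact Subgroup.mul_mem_sup ((hE₂mem a).mp ha) (by simpa using (hT₁conj b).mp hb)
    · intro hx
      obtain ⟨a, ha, b, hb, hab⟩ := (Coprime.mem_sup_of_le_normalizer hT₁E₁).mp hx
      rw [show x = (s * a * s⁻¹) * (s * b * s⁻¹) by
        rw [show s * a * s⁻¹ * (s * b * s⁻¹) = s * (a * b) * s⁻¹ by group, hab]; group]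
      exact Subgroup.mul_mem_sup ⟨a, ha, rfl⟩
        ((conj_mem_iff_of_normalizer (hT₁n hs) b).mp hb)
  have h₂ : Good z E₂ (E₂ ⊔ T₁) fun x => ψ₁ (s⁻¹ * x * s⁻¹⁻¹) :=
    h₁.twist hE.central s⁻¹ (fun x => by rw [inv_inv]; exact hE₂mem x) hconjsup
  have hi : E₁ ⊓ E₂ ≤ zpowers z := fun w hw => hE₁B.cent w hw.1 fun y hy =>
    ((comm_of_le_centralizer hc12 hy hw.2)).symm
  obtain ⟨χ, hχ, hχv⟩ := Good.combine hE hE₁B.mem hU hi hc12 hT₁E₁ hT₁E₂
    (le_bot_iff.mp ((inf_le_inf_left _ hT₁T.le).trans hdT.le)) h₁ h₂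
  have hT₁nE : T₁ ≤ Subgroup.normalizer (E : Set G) := hT₁T.le.trans (le_sup_right.trans hm)
  have hdec : ∀ x ∈ E ⊔ T₁, ∃ a ∈ E₁, ∃ b ∈ E₂, ∃ t ∈ T₁, x = a * b * t := by
    intro x hx
    obtain ⟨e, he, t, ht, rfl⟩ := (Coprime.mem_sup_of_le_normalizer hT₁nE).mp hx
    rw [← hU] at he
    obtain ⟨a, ha, b, hb, rfl⟩ := (Coprime.mem_sup_of_le_normalizer
      (le_normalizer_of_le_centralizer (Subgroup.le_centralizer_iff.mp hc12))).mp he
    exact ⟨a, ha, b, hb, t, ht, rfl⟩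
  set Q := E ⊔ T₁
  have hQn : E ⊔ T ≤ Subgroup.normalizer (Q : Set G) := by
    refine sup_le (le_sup_left.trans Subgroup.le_normalizer) ?_
    exact le_trans (le_inf (le_sup_right.trans hm) hT₁n)
      (Subgroup.normalizer_inf_normalizer_le_normalizer_sup _ _)
  have hsinv : ∀ x ∈ Q, χ (s * x * s⁻¹) = χ x := by
    intro x hx
    obtain ⟨a, ha, b, hb, t, ht, rfl⟩ := hdec x hx
    have hb' : s * b * s⁻¹ ∈ E₁ := by
      obtain ⟨y, hy, rfl⟩ := hb
      exact hss' y hy
    have ha' : s * a * s⁻¹ ∈ E₂ := ⟨a, ha, rfl⟩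
    have ht' : s * t * s⁻¹ ∈ T₁ := (conj_mem_iff_of_normalizer (hT₁n hs) t).mp ht
    have hcm := comm_of_le_centralizer hc12 hb' ha'
    rw [show s * (a * b * t) * s⁻¹ = (s * a * s⁻¹) * (s * b * s⁻¹) * (s * t * s⁻¹) by group,
      ← hcm, hχv _ hb' _ ha' _ ht', hχv a ha b hb t ht]
    have e1 : s⁻¹ * (s * a * s⁻¹ * (s * t * s⁻¹)) * s⁻¹⁻¹ = a * t := by group
    have hy : s⁻¹ * (b * t) * s⁻¹⁻¹ ∈ E₁ ⊔ T₁ :=
      (hconjsup _).mp (Subgroup.mul_mem_sup hb ht)
    have e2 : s * b * s⁻¹ * (s * t * s⁻¹) = (s * s) * (s⁻¹ * (b * t) * s⁻¹⁻¹) * (s * s)⁻¹ := by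
      group
    rw [e1, e2, h₁.class_apply (mem_sup_right hss) hy, mul_comm]
  let Inv : Subgroup G :=
    { carrier := {g | g ∈ Subgroup.normalizer (Q : Set G) ∧ ∀ x ∈ Q, χ (g * x * g⁻¹) = χ x}
      one_mem' := ⟨one_mem _, fun x _ => by simp⟩
      mul_mem' := fun {g g'} hg hg' => ⟨mul_mem hg.1 hg'.1, fun x hx => by
        have hx' : g' * x * g'⁻¹ ∈ Q := (conj_mem_iff_of_normalizer hg'.1 x).mp hx
        rw [show g * g' * x * (g * g')⁻¹ = g * (g' * x * g'⁻¹) * g⁻¹ by group, hg.2 _ hx',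
          hg'.2 x hx]⟩
      inv_mem' := fun {g} hg => ⟨inv_mem hg.1, fun x hx => by
        have hx' : g⁻¹ * x * g⁻¹⁻¹ ∈ Q := (conj_mem_iff_of_normalizer (inv_mem hg.1) x).mp hx
        have := hg.2 _ hx'
        rw [show g * (g⁻¹ * x * g⁻¹⁻¹) * g⁻¹ = x by group] at this
        exact this.symm⟩ }
  have hQI : Q ≤ Inv := fun g hg =>
    ⟨Subgroup.le_normalizer hg, fun x hx => hχ.class_apply hg hx⟩
  have hI : E ⊔ T ≤ Inv := sup_le (le_sup_left.trans hQI) (hgen.trans (sup_le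
    (le_sup_right.trans hQI) (zpowers_le_of_mem ⟨hQn (mem_sup_right hs), hsinv⟩)))
  obtain ⟨χ', hχ', -⟩ := hχ.extend_cyclic hE.mem (Q' := E ⊔ T) (sup_le_sup_left hT₁T.le E) hQn
    (fun g hg => (hI hg).2) (t := s) (mem_sup_right hs)
    (sup_le (le_sup_left.trans le_sup_left) (hgen.trans (sup_le_sup_right le_sup_right _)))
  exact ⟨χ', hχ'⟩

end Cfsg.Agent.DadeExt
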